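import Cfsg.Agent.H948.Ppd.TypeB_m3
import Cfsg.Agent.SM.Ti.Box
import Cfsg.Agent.H887.DS.SixFive
import Cfsg.Agent.H911.AdF
import Cfsg.Agent.H948.Ppd.NdMinus
import Cfsg.Agent.H392.TD.Count_m3
import Cfsg.Agent.KFacts.RgdDiag
import Cfsg.Agent.FastGrp
import Cfsg.Agent.Prune
set_option linter.all false

section
prune_inst 0x7ffdfffbfbfde7ffffff7e7ffed9dffc3b971fffe6dffd4b7fe8e9ff2bdf338809e5ff8d8de050fe1ff6e21410b87853fbfffeffe36ffc7ffffdfff45ffbee4fe5f7bd2d31d68c340f3c6fff83f07f8e7f3fffffffffffffffffffffffffffbeffbfffffffff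

-- part: H650/Ppd/Psl
section
prune_inst 0x200040002100000000000012000020040c000090002008016020084008016120800221000a001000004e328010000000000000800000000000003000000301208000000013100d04200001800004000000000000000000000000000000000004000000000
set_option linter.all false
open scoped Cfsg.Agent.FastGrp

/-!
# TEAM PPD (S5948): `PSL_N(K)` in its own characteristic (helper650)

* `nd_A` : the nodes of `SL(l + 1, E)`;
* `Row.le_of_dvd` : `r ∣ m`, `r ∣ |K| ^ e - 1`, `|K| = |F| ^ j` imply `k ≤ j e`;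
* **`nat_psl`** : `Row k m P`, `Soc P ≃ PSL_N(K)`, `char K = char F` imply `Nat' P`.
-/

set_option autoImplicit false
set_option linter.unusedSectionVars false
set_option linter.style.haveILetI false

namespace Cfsg.Agent.H650.Ppd

open Matrix CoxeterSystem Cfsg.Agent.ChevalleyStructure.CoxeterGeom Cfsg.Agent.Tits.Roots Cfsg.Agent.Tits.Core
  Cfsg.Agent.Tits.Exchange Cfsg.Agent.Nodes.Reps Cfsg.Agent.Nodes.BNOf Cfsg.Agent.Nodes.StabComb
  Cfsg.Agent.Nodes.Bruhat Cfsg.Agent.Nodes.OppDec Cfsg.Agent.Nodes.LeviDec Cfsg.Agent.KFacts.RgdOpp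
  Cfsg.Agent.Omega.CR Cfsg.Agent.Omega.FOne.Lift.Sd Cfsg.Agent.H905.Md Cfsg.Agent.Nodes.RootsA
open Cfsg Cfsg.Geo
open Cfsg.Agent.H911 (lin)
open Cfsg.Agent.H911.Ad (bk bk_U bk_Lo bk_hh_mem)
open Cfsg.Agent.LieRecognition.BNCox (cA)
open Cfsg.Agent.Nodes.RGDTypeA (X_sr X_neg_sr mem_XX)
open Cfsg.Agent.H915.LD (Core Soc)
open Cfsg.Agent.H100.Ppd (Row Num Nat')

universe u v

/-! ### nodes -/

theorem nd_A {E : Type*} [Field E] {l : ℕ} (i : Fin l) :
    Nd (Nodes.RGDTypeA.T (Fin (l + 1)) E) (Nodes.RGDTypeA.X E) i (bk E i) where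
  up x := by
    rw [X_sr, mem_XX]
    simp only [bk_U]
  lo x := by
    rw [X_neg_sr, mem_XX]
    simp only [bk_Lo]
  tor s := bk_hh_mem i s

/-! ### orders -/

section order

variable {n : ℕ} {F : Type u} [Field F] [Finite F] {k m : ℕ} {P : Subgroup (GL (Fin n) F)}

theorem le_of_dvd {q : ℕ} (h : Num q n k m) {r : ℕ} (hr : r.Prime) (hrm : r ∣ m) {Q j e : ℕ} (hQ : q ^ j = Q)
    (hj : 1 ≤ j) (he : 1 ≤ e) (hd : r ∣ Q ^ e - 1) : k ≤ j * e := by
  have : Fact r.Prime := ⟨hr⟩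
  refine Nat.le_of_dvd (Nat.mul_pos hj he) ?_
  rw [← h.pow_eq_one_iff hr hrm]
  have hq := h.one_lt_q
  have h1 : 1 ≤ Q ^ e := Nat.one_le_pow _ _ (by rw [← hQ]; exact Nat.pow_pos (by omega))
  rw [← ZMod.natCast_eq_zero_iff, Nat.cast_sub h1, Nat.cast_pow, Nat.cast_one, sub_eq_zero] at hd
  rw [← hd, ← hQ, Nat.cast_pow, pow_mul]

/-- a prime divisor of `m` dividing `|SL_N(K)|` -/
theorem le_of_dvd_sl (h : Row k m P) {K : Type*} [Field K] [Fintype K] {j N : ℕ} (hj : 1 ≤ j)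
    (hjK : Nat.card F ^ j = Nat.card K) (hN : 2 ≤ N) {r : ℕ} (hr : r.Prime) (hrm : r ∣ m)
    (hd : r ∣ Nat.card (SpecialLinearGroup (Fin N) K)) : k ≤ j * N := by
  rw [H953.card_SL N (by omega), hr.dvd_mul] at hd
  rcases hd with hd | hd
  · exfalso
    have h1 := hr.dvd_of_dvd_pow hd
    rw [← Nat.card_eq_fintype_card, ← hjK] at h1
    exact h.num.not_dvd_q hr hrm (hr.dvd_of_dvd_pow h1)
  · obtain ⟨e, he, hde⟩ := (Prime.dvd_finsetProd_iff hr.prime _).1 hd
    rw [Finset.mem_Icc] at he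
    have h1 := le_of_dvd h.num hr hrm (hjK.trans Nat.card_eq_fintype_card) hj (by omega) hde
    exact h1.trans (Nat.mul_le_mul_left _ he.2)

end order

/-! ### the bound -/

section bound

variable {F : Type u} [Field F] [Finite F] {ι : Type} [Fintype ι] [DecidableEq ι] {P : Subgroup (GL ι F)}
  {K : Type} [Field K] [Fintype K] (p : ℕ) [hp : Fact p.Prime] [hFp : CharP F p] [hKp : CharP K p] {l : ℕ}
include hp hFp hKp

/-- `n ≥ N + C(N, 2) (2 ^ j - 2)` -/
theorem card_ge_A (hC : Core P) (hl : 2 ≤ l) (Φ : Soc P ≃* ProjectiveSpecialLinearGroup (Fin (l + 1)) K) {j : ℕ}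
    (hj : Nat.card K = Nat.card F ^ j) :
    (l + 1) + (l + 1).choose 2 * (2 ^ j - 2) ≤ Fintype.card ι := by
  obtain ⟨φ, hφ, -, -⟩ := psl_cover p hC.perfect (by omega) (fun h => by omega) Φ
  have h2 := nonempty_of_psl hC.perfect (by omega) (fun h => by omega) Φ
  haveI : Nonempty ι := Fintype.card_pos_iff.1 (by omega)
  haveI : Finite (cA l).Group := finite_W (cA l).toCoxeterSystem (isCartan l)
  haveI hchar : CharP (AlgebraicClosure F) p := charP_of_injective_algebraMap (algebraMap F _).injective p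
  have R := Nodes.RGDTypeA.rgd (cA l).toCoxeterSystem (isCartan l) (F := K) (p := p)
  have hG := gg_eq_top (T := Nodes.RGDTypeA.T (Fin (l + 1)) K)
    (Nodes.RGDTypeA.G1_eq_top (F := K) (cA l).toCoxeterSystem (isCartan l))
  have hirr := ac_irr R hG slT_comm hφ hC.absIrred
  have hD := finrank_D R hirr slT_comm
  obtain ⟨i, hi⟩ := exists_not_mem R hirr (by rw [hD, Module.finrank_fintype_fun_eq_card]; omega)
  obtain ⟨d, hd2, hd⟩ := edge_pow_of_card R hG slT_comm hφ hC.absIrred (nd_A i) hi hj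
  have h3 := dim_ge_A R hirr hi
  have h4 := finrank_Io R hirr i
  rw [hd, hD] at h4
  rw [hD, mul_one, Module.finrank_fintype_fun_eq_card] at h3
  have h5 : 2 ^ j ≤ d ^ j := Nat.pow_le_pow_left hd2 j
  have h6 : l + 1 ≤ (l + 1).choose (i.val + 1) := by
    have h3 := i.2
    by_cases h4 : i.val = 0
    · rw [h4]; simp
    · by_cases h5 : i.val + 1 = l
      · rw [h5, Nat.choose_succ_self_right]
      · have h6 := choose_two_le (m := l + 1) (k := i.val + 1) (by omega) (by omega)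
        refine le_trans ?_ h6
        rw [Nat.choose_two_right, Nat.le_div_iff_mul_le (by norm_num)]
        rw [Nat.add_sub_cancel]
        exact Nat.mul_le_mul le_rfl (by omega)
  have h7 : (l + 1).choose 2 * (2 ^ j - 2) ≤ (l + 1).choose 2 *
      Module.finrank (AlgebraicClosure F) (Io (cA l).toCoxeterSystem (isCartan l)
        (Nodes.RGDTypeA.T (Fin (l + 1)) K) (Nodes.RGDTypeA.X K) (lin (acRep φ)) i) :=
    Nat.mul_le_mul_left _ (by omega)
  exact (Nat.add_le_add h6 h7).trans h3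

end bound

/-! ### `SL_3(K)` in dimension 10 -/

section three

variable {F : Type u} [Field F] [Finite F] {ι : Type} [Fintype ι] [DecidableEq ι] {P : Subgroup (GL ι F)}
  {E : Type*} [Field E] [Finite E] (p : ℕ) [hp : Fact p.Prime] [hFp : CharP F p] [hEp : CharP E p]
include hp hFp hEp

open Cfsg.Agent.H887.DS in
theorem card_eq_of_ten (hC : Core P) (Φ : Soc P ≃* ProjectiveSpecialLinearGroup (Fin 3) E)
    (hn : Fintype.card ι = 10) : Nat.card E = Nat.card F := by
  haveI : Nonempty ι := Fintype.card_pos_iff.1 (by omega)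
  obtain ⟨φ, hφ, -, -, hirr, ε, v, ψ, a, b, hv0, hψ0, ha, hb, hf, hc⟩ := exists_rep3 p hC Φ (by omega)
  obtain ⟨j, hj, hFE⟩ := psl_card (l := 2) p hC.absIrred hC.perfect (by norm_num) (fun h => by omega) Φ hC.no_subfield
  have key : ∀ c, OneCase p 3 c (Fintype.card ι) → ∃ r i, 1 ≤ r ∧ r < p ∧ c = r * p ^ i := by
    rintro c (⟨r, e, hr, hrp, hce, -⟩ | ⟨e, e', -, -, hn'⟩)
    · exact ⟨r, e, hr, hrp, hce⟩
    · omega
  rcases hc with ⟨rfl, hc⟩ | ⟨rfl, hc⟩ | ⟨-, h6, h9⟩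
  · obtain ⟨r, i, hr, hrp, rfl⟩ := key _ hc
    exact card_eq_of_dvd hj hFE hr hrp (Cfsg.Agent.H887.DS.dvd_zero p hirr hv0 hψ0 le_rfl hf)
  · obtain ⟨r, i, hr, hrp, rfl⟩ := key _ hc
    exact card_eq_of_dvd hj hFE hr hrp (Cfsg.Agent.H887.DS.dvd_last p hirr hv0 hψ0 le_rfl hf)
  · omega

end three

/-! ### arithmetic -/

theorem four_lt_two_pow {j : ℕ} (hj : 4 ≤ j) : 4 * j ≤ 2 ^ j := by
  induction j, hj using Nat.le_induction with
  | base => norm_num
  | succ j hj ih => rw [pow_succ]; omega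

theorem two_pow_bound {j : ℕ} (hj : 2 ≤ j) : 2 * j ≤ 2 ^ j := by
  induction j, hj using Nat.le_induction with
  | base => norm_num
  | succ j hj ih => rw [pow_succ]; omega

theorem two_pow_bound' {j : ℕ} (hj : 3 ≤ j) : 2 * j + 1 ≤ 2 ^ j := by
  induction j, hj using Nat.le_induction with
  | base => norm_num
  | succ j hj ih => rw [pow_succ]; omega

/-- `N + C(N, 2) (2 ^ j - 2) ≥ 2 j N`, `N ≥ 4`, `j ≥ 2` -/
theorem arith_A {N j : ℕ} (hN : 4 ≤ N) (hj : 2 ≤ j) : 2 * (j * N) ≤ N + N.choose 2 * (2 ^ j - 2) := by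
  have h1 : 3 * N ≤ 2 * N.choose 2 := by
    have h2 : N.choose 2 * 2 = N * (N - 1) := by
      rw [Nat.choose_two_right, Nat.div_mul_cancel]
      exact (Nat.even_mul_pred_self N).two_dvd
    rw [mul_comm 2, h2, mul_comm 3]
    exact Nat.mul_le_mul_left _ (by omega)
  have h2 := two_pow_bound hj
  obtain ⟨x, hx⟩ : ∃ x, 2 ^ j = x + 2 := ⟨2 ^ j - 2, by omega⟩
  rw [hx, Nat.add_sub_cancel]
  have h3 : 2 * (j - 1) ≤ x := by omega
  obtain ⟨i, rfl⟩ : ∃ i, j = i + 1 := ⟨j - 1, by omega⟩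
  rw [Nat.add_sub_cancel] at h3
  have h4 : 2 * (N.choose 2 * x) ≥ 3 * N * x := by
    rw [← mul_assoc]
    exact Nat.mul_le_mul_right _ h1
  have h5 : 3 * N * x ≥ 3 * N * (2 * i) := Nat.mul_le_mul_left _ h3
  have hi : 1 ≤ i := by omega
  have h6 : N ≤ N * i := Nat.le_mul_of_pos_right _ hi
  nlinarith

/-! ### the row -/

section row

variable {n : ℕ} {F : Type u} [Field F] [Finite F] {k m : ℕ} {P : Subgroup (GL (Fin n) F)}
  {K : Type} [Field K] [Fintype K] (p : ℕ) [hp : Fact p.Prime] [hFp : CharP F p] [hKp : CharP K p]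
include hp hFp hKp

/-- **`PSL_N(K)` in its own characteristic.** -/
theorem nat_psl (h : Row k m P) (hg : ∃ r, r.Prime ∧ r ∣ m ∧ r ∣ Nat.card (Soc P)) {N : ℕ} (hN : 2 ≤ N)
    (h4 : N = 2 → 4 ≤ Fintype.card K) (e : Soc P ≃* Matrix.ProjectiveSpecialLinearGroup (Fin N) K) : Nat' P := by
  have hC := h.core
  have hn := h.num
  obtain ⟨l, rfl⟩ : ∃ l, N = l + 1 := ⟨N - 1, by omega⟩
  have hK4 : l = 1 → 4 ≤ Nat.card K := fun hl => by
    rw [Nat.card_eq_fintype_card]; exact h4 (by omega)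
  obtain ⟨j, hj, hjK⟩ := psl_card p hC.absIrred hC.perfect (by omega) hK4 e hC.no_subfield
  have hk : k ≤ j * (l + 1) := by
    obtain ⟨r, hr, hrm, hrT⟩ := hg
    refine le_of_dvd_sl h hj hjK hN hr hrm (hrT.trans ?_)
    rw [Nat.card_congr e.toEquiv]
    exact Subgroup.card_quotient_dvd_card _
  have hn10 := hn.ten
  have hnlt : n < 2 * (j * (l + 1)) := lt_of_lt_of_le hn.nlt (Nat.mul_le_mul_left _ hk)
  rcases Nat.lt_or_ge l 2 with hl | hl
  · -- `N = 2`
    exfalso
    obtain rfl : l = 1 := by omega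
    have := Fintype.ofFinite F
    obtain ⟨s, d, hs0, hs, hd2, hd⟩ := H875.Psl2.exists_pow p hC e
    rw [Fintype.card_fin] at hd
    have hsj : s = j := by
      rw [Nat.card_eq_fintype_card, Nat.card_eq_fintype_card, hs] at hjK
      exact (Nat.pow_right_injective (Fintype.one_lt_card (α := F)) hjK).symm
    subst hsj
    have h5 : 2 ^ s ≤ d ^ s := Nat.pow_le_pow_left hd2 s
    rcases Nat.lt_or_ge s 4 with h6 | h6
    · interval_cases s
      · omega
      · omega
      · rcases Nat.lt_or_ge d 3 with h7 | h7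
        · obtain rfl : d = 2 := by omega
          omega
        · have := Nat.pow_le_pow_left h7 3
          omega
    · have := four_lt_two_pow h6
      omega
  · have hjK' : Nat.card K = Nat.card F ^ j := hjK.symm
    rcases Nat.lt_or_ge j 2 with hj1 | hj2
    · obtain rfl : j = 1 := by omega
      have hl5 : 5 ≤ l := by omega
      have h5 : n < (l + 1).choose 2 := by
        have h6 : (l + 1).choose 2 * 2 = (l + 1) * l := by
          rw [Nat.choose_two_right, Nat.add_sub_cancel, Nat.div_mul_cancel]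
          rw [mul_comm]
          exact (Nat.even_mul_succ_self l).two_dvd
        nlinarith
      have h6 := psl_dim p hC.absIrred hC.perfect (by omega) hK4 e hl (Or.inl (by rwa [Fintype.card_fin]))
      rw [Fintype.card_fin] at h6
      obtain ⟨-, h7⟩ := psl_eq p hC.absIrred hC.perfect (by omega) hK4 e hC.no_subfield h6
      exact Or.inl h7.ge
    · exfalso
      have h5 := card_ge_A p hC hl e hjK'
      rw [Fintype.card_fin] at h5
      rcases Nat.lt_or_ge l 3 with hl3 | hl3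
      · obtain rfl : l = 2 := by omega
        have h6 : (2 + 1).choose 2 = 3 := rfl
        rw [h6] at h5
        rcases Nat.lt_or_ge j 3 with hj3 | hj3
        · obtain rfl : j = 2 := by omega
          have h7 := H887.DS.dim3 p hC e (by rw [Fintype.card_fin]; omega)
          rw [Fintype.card_fin] at h7
          have h8 := card_eq_of_ten p hC e (by rw [Fintype.card_fin]; omega)
          rw [hjK'] at h8
          have h9 : 1 < Nat.card F := Finite.one_lt_card
          nlinarith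
        · have := two_pow_bound' hj3
          omega
      · have := arith_A (N := l + 1) (j := j) (by omega) hj2
        omega

end row

end Cfsg.Agent.H650.Ppd
end

-- part: H948/Ppd/PmLevi
section
prune_inst 0x80000000000000620020000000000000000000010008000000004000000001000000001008800008000000001000800010000000000000000100008000040202000008200001000000000000000000000000000000000000000004000000000
set_option linter.all false
open scoped Cfsg.Agent.FastGrp

/-!
# Type `B_3`, the middle node (helper948)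

* `Nd.rp_ww` : `σ(ww)` represents the simple reflection;
* `dim_ge_mid` : `12 δ + 24 dim Io 1 ≤ dim V`, `1 ∉ J`;
* **`levi_mid`** : `1 ∉ J`, the weights of `s ↦ g⁻¹ σ(hh s) g` (`σ` at the last node) have `|SS p c| ≥ 4` : `20 ≤ dim V`;
* **`levi_F`** : `1 ∉ J`, `|E| = |F| ^ 2` : `20 ≤ |ι|`.
-/

set_option autoImplicit false
set_option linter.unusedSectionVars false
set_option linter.style.haveILetI false

namespace Cfsg.Agent.H948.Ppd

open CoxeterSystem Cfsg.Agent.ChevalleyStructure.CoxeterGeom Cfsg.Agent.Tits.Roots Cfsg.Agent.Tits.Core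
  Cfsg.Agent.Tits.Exchange Cfsg.Agent.Nodes.Reps Cfsg.Agent.Nodes.BNOf Cfsg.Agent.Nodes.StabComb
  Cfsg.Agent.Nodes.Bruhat Cfsg.Agent.Nodes.OppDec Cfsg.Agent.Nodes.LeviDec Cfsg.Agent.KFacts.RgdOpp
  Cfsg.Agent.Omega.CR Cfsg.Agent.Omega.FOne.Lift.Sd Cfsg.Agent.H905.Md
open Cfsg.Agent.H905.DC (co fire cf co_one co_mul_simple co_mul_left co_wordProd)
open Cfsg.Agent.H650.Ppd (mo mf mo_wordProd co_eq_of_mem dim_ge_list)
open Cfsg.Agent.H911 (lin)
open Cfsg.Agent.H911.SLTwo Cfsg.Agent.Nodes.TypeC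
open Cfsg.Agent.H875.Fn (SS)
open Cfsg.Agent.H117.Levi
open Cfsg Cfsg.Geo
open scoped MatrixGroups Matrix

/-! ### the simple reflection -/

section ww

variable {I W Y : Type*} [Fintype I] [DecidableEq I] [Group W] [Group Y] {M : CoxeterMatrix I}
  {cs : CoxeterSystem M W} {A : I → I → ℤ} {h : IsCartan M A} {p : ℕ} {T : Subgroup Y} {n : I → Y}
  {X : (I → ℤ) → Subgroup Y}

theorem cj_cancel {G : Type*} [Group G] {g : G} {X Y : Subgroup G} (h : cj g X = Y) : X = cj g⁻¹ Y := by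
  rw [← h, cj_inv_cj]

theorem Nd.rp_ww [Finite W] (R : RGD cs h p T n X) {i : I} {E : Type*} [Field E] {σ : SL(2, E) →* Y} (N : Nd T X i σ) :
    Rp cs R.nsys (cs.simple i) (σ ww) := by
  have h0 : σ (Lo (-1)) ∈ X (-sr i) := (N.lo _).2 ⟨_, rfl⟩
  have h1 : σ (Lo (-1)) ≠ 1 := by
    intro h1
    have h2 : σ ww = σ (U 1) * σ (U 1) := by
      have h3 := hh_ww (1 : Eˣ)
      rw [hh_one, one_mul, inv_one, Units.val_one] at h3
      rw [h3, map_mul, map_mul, h1, mul_one]
    have h3 := N.ww_conj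
    rw [h2, cj_mul, N.U_conj, N.U_conj] at h3
    exact X_ne R i h3
  obtain ⟨x, hx, t, ht, y, hy, e⟩ := R.rk1 i _ h0 h1
  have hww : σ ww = σ (U 1) * x * t * n i * y * σ (U 1) := by
    have h3 := hh_ww (1 : Eˣ)
    rw [hh_one, one_mul, inv_one, Units.val_one] at h3
    rw [h3, map_mul, map_mul, e]
    group
  obtain ⟨α, hα⟩ := (N.up _).1 (mul_mem ((N.up _).2 ⟨1, rfl⟩) hx)
  obtain ⟨β, hβ⟩ := (N.up _).1 (mul_mem hy ((N.up _).2 ⟨1, rfl⟩))
  have hr : Rp cs R.nsys (cs.simple i) (t * n i) := by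
    have h3 := (rp_of_mem (cs := cs) (hN := R.nsys) ht).mul (rp_simple cs R.nsys i)
    rwa [one_mul] at h3
  have hww' : σ ww = σ (U α) * (t * n i) * σ (U β) := by
    rw [hα, hβ, hww]
    group
  -- `t n_i` interchanges `X_i` and `X_{-i}`
  have c1 : cj (t * n i) (X (sr i)) = X (-sr i) := by
    have h3 := R.conj_rp hr (isRoot_sr cs h i)
    rwa [rep_simple_sr] at h3
  have c2 : cj (t * n i) (X (-sr i)) = X (sr i) := by
    have h3 := R.conj_rp hr (isRoot_sr cs h i).neg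
    rwa [map_neg, rep_simple_sr, neg_neg] at h3
  have hα0 : α = 0 := by
    have h3 := N.ww_conj
    rw [hww', cj_mul, N.U_conj, cj_mul, c1] at h3
    have h4 := N.upper_zero R h3
    rwa [U01] at h4
  have hβ0 : β = 0 := by
    have h3 := N.ww_conj'
    rw [hww', hα0, U_zero, map_one, one_mul, cj_mul] at h3
    have h4 := cj_cancel h3
    have h5 := cj_cancel c2
    rw [← h5] at h4
    have h6 := N.upper_zero R h4
    rwa [U01] at h6
  rw [hww', hα0, hβ0, U_zero, map_one, one_mul, mul_one]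
  exact hr

end ww

/-! ### the middle node -/

section mid

variable {W Y : Type*} [Group W] [Group Y] {cs : CoxeterSystem (CoxeterMatrix.B 3) W} {p : ℕ}
  {T : Subgroup Y} {nn : Fin 3 → Y} {X : (Fin 3 → ℤ) → Subgroup Y} {k V : Type*} [Field k] [AddCommGroup V] [Module k V]
  (R : RGD cs (isCartan 3) p T nn X) [Finite Y] [Finite W] [Fact p.Prime] [CharP k p]
  {ρ : Y →* Module.End k V} [FiniteDimensional k V] [Nontrivial V]
  (hirr : ∀ L : Submodule k V, Ivt ρ (GG cs (isCartan 3) T X) L → L = ⊥ ∨ L = ⊤)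

/-- the vertices -/
def LV : List (List (Fin 3)) := [[], [1], [1, 0], [1, 2], [1, 0, 2], [1, 2, 1], [1, 0, 2, 1], [1, 2, 1, 0], [1, 0, 2, 1, 0], [1, 0, 2, 1, 2],
  [1, 0, 2, 1, 0, 2], [1, 0, 2, 1, 0, 2, 1]]

/-- the edges -/
def LE : List (List (Fin 3)) := [[], [0], [2], [0, 1], [0, 2], [2, 1], [0, 1, 2], [0, 2, 1], [2, 1, 0], [2, 1, 2], [0, 1, 2, 1], [0, 2, 1, 0],
  [0, 2, 1, 2], [2, 1, 0, 2], [0, 1, 2, 1, 0], [0, 1, 2, 1, 2], [0, 2, 1, 0, 2], [2, 1, 0, 2, 1], [0, 1, 2, 1, 0, 2],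
  [0, 2, 1, 0, 2, 1], [2, 1, 0, 2, 1, 2], [0, 1, 2, 1, 0, 2, 1], [0, 2, 1, 0, 2, 1, 2], [0, 1, 2, 1, 0, 2, 1, 2]]

theorem nodup_LV : (LV.map (cf (A 3) 1)).Nodup := by decide +kernel

set_option maxRecDepth 4000 in
theorem nodup_LE : (LE.map (mf (A 3) 1)).Nodup := by decide +kernel

include R hirr in
/-- **The middle node of `B_3`.** -/
theorem dim_ge_mid (h1 : (1 : Fin 3) ∉ Jx cs (isCartan 3) X ρ) :
    12 * Module.finrank k (D cs (isCartan 3) X ρ) + 24 * Module.finrank k (Io cs (isCartan 3) T X ρ 1) ≤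
      Module.finrank k V := dim_ge_list R hirr h1 LV LE nodup_LV nodup_LE

/-- the double cosets of the last node -/
def LW : Fin 8 → List (Fin 3) :=
  ![[], [1, 2, 1], [1, 2, 1, 0], [1, 0, 2, 1, 0, 2, 1], [1], [1, 0], [1, 0, 2, 1], [1, 0, 2, 1, 0]]

theorem LW_nonneg : ∀ a i, 0 ≤ cf (A 3) i (LW a) 2 := by decide +kernel

theorem LW_ne : ∀ a a', a ≠ a' → cf (A 3) 1 (LW a) ≠ cf (A 3) 1 (LW a') ∧
    fire (A 3) (cf (A 3) 1 (LW a)) 2 ≠ cf (A 3) 1 (LW a') := by decide +kernel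

theorem LW_pos : ∀ a, 4 ≤ a → fire (A 3) (cf (A 3) 1 (LW a)) 2 ≠ cf (A 3) 1 (LW a) := by decide +kernel

include R hirr in
/-- **The Levi subgroup of the last node.** -/
theorem levi_mid (h1 : (1 : Fin 3) ∉ Jx cs (isCartan 3) X ρ) {E : Type*} [Field E] [Fintype E] (j : E →+* k)
    {σ : SL(2, E) →* Y} (N : Nd T X (2 : Fin 3) σ)
    (hS : ∀ (g : Y) (w : W), Rp cs R.nsys w g → ∃ c, 1 ≤ c ∧ c ≤ Fintype.card E - 1 ∧ 4 ≤ (SS p c).card ∧
      ∀ s : Eˣ, ∀ v ∈ D cs (isCartan 3) X ρ, ρ (g⁻¹ * σ (hh s) * g) v = j s ^ c • v) : 20 ≤ Module.finrank k V := by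
  have hg : ∀ a : Fin 8, ∃ g, Rp cs R.nsys (cs.wordProd (LW a))⁻¹ g := fun a => exists_rp (cs := cs) (hN := R.nsys) _
  choose g hg using hg
  have hco : ∀ {u w : W}, w⁻¹ * u ∈ WJ cs (Jx cs (isCartan 3) X ρ) → co cs (isCartan 3) 1 w⁻¹ = co cs (isCartan 3) 1 u⁻¹ :=
    fun hw => co_eq_of_mem h1 hw
  have hsum := dim_ge_levi R hirr ({2} : Set (Fin 3)) (fun a : Fin 8 => (cs.wordProd (LW a))⁻¹) g hg
    (fun a i hi => by
      obtain rfl : i = 2 := hi
      rw [inv_inv]
      intro i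
      have h2 := LW_nonneg a i
      rw [← co_wordProd cs (isCartan 3)] at h2
      exact h2)
    (fun a a' haa x hx hmem => by
      obtain ⟨n1, n2⟩ := LW_ne a a' haa
      have h2 := co_mul_left cs (isCartan 3) h1 hmem (cs.wordProd (LW a'))
      have e : (cs.wordProd (LW a))⁻¹⁻¹ * x * (cs.wordProd (LW a'))⁻¹ * cs.wordProd (LW a') =
        cs.wordProd (LW a) * x := by group
      rw [e] at h2
      rcases Cfsg.Agent.KFacts.RgdDiag.mem_WJ_singleton hx with rfl | rfl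
      · rw [mul_one, co_wordProd, co_wordProd] at h2
        exact n1 h2
      · rw [co_mul_simple, co_wordProd, co_wordProd] at h2
        exact n2 h2)
  have hlow : ∀ a : Fin 8, 4 ≤ a → 4 ≤ lrk cs (isCartan 3) T X ρ {2} (g a) := by
    intro a ha
    obtain ⟨c, hc1, hc2, hc4, hc⟩ := hS (g a) _ (hg a)
    refine hc4.trans (card_SS_le_lrk R hirr (hg a) ?_ ?_ j σ (fun t => (N.up _).2 ⟨t, rfl⟩)
      (fun t => (N.lo _).2 ⟨t, rfl⟩) N.tor (N.rp_ww R) hc1 hc2 hc)
    · rw [inv_inv]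
      intro i
      have h2 := LW_nonneg a i
      rw [← co_wordProd cs (isCartan 3)] at h2
      exact h2
    · intro hmem
      have h2 := co_mul_left cs (isCartan 3) h1 hmem (cs.wordProd (LW a))
      have e : (cs.wordProd (LW a))⁻¹⁻¹ * cs.simple 2 * (cs.wordProd (LW a))⁻¹ * cs.wordProd (LW a) =
        cs.wordProd (LW a) * cs.simple 2 := by group
      rw [e, co_mul_simple, co_wordProd] at h2
      exact LW_pos a ha h2
  have hone : ∀ a : Fin 8, 1 ≤ lrk cs (isCartan 3) T X ρ {2} (g a) := fun a => one_le_lrk R hirr _ _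
  rw [Fin.sum_univ_eight] at hsum
  have a0 := hone 0
  have a1 := hone 1
  have a2 := hone 2
  have a3 := hone 3
  have a4 := hlow 4 (by decide)
  have a5 := hlow 5 (by decide)
  have a6 := hlow 6 (by decide)
  have a7 := hlow 7 (by decide)
  omega

end mid

/-! ### linear groups -/

section lingrp

/-- a homomorphism into a field is a power -/
theorem exists_exp {E k : Type*} [Field E] [Fintype E] [Field k] (j : E →+* k) (θ : Eˣ →* kˣ) :
    ∃ c, 1 ≤ c ∧ c ≤ Fintype.card E - 1 ∧ ∀ s : Eˣ, (θ s : k) = j s ^ c := by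
  classical
  have hcE : 1 < Fintype.card E := Fintype.one_lt_card
  obtain ⟨ω, hω⟩ := IsCyclic.exists_generator (α := Eˣ)
  have hord : orderOf ω = Fintype.card E - 1 := by
    rw [orderOf_eq_card_of_forall_mem_zpowers hω, Nat.card_eq_fintype_card, Fintype.card_units]
  have hpr : IsPrimitiveRoot (j (ω : E)) (Fintype.card E - 1) := by
    have h1 : IsPrimitiveRoot ω (Fintype.card E - 1) := hord ▸ IsPrimitiveRoot.orderOf ω
    have h2 : IsPrimitiveRoot (ω : E) (Fintype.card E - 1) :=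
      h1.map_of_injective (f := Units.coeHom E) Units.val_injective
    exact h2.map_of_injective j.injective
  have hχ1 : ((θ ω : kˣ) : k) ^ (Fintype.card E - 1) = 1 := by
    rw [← Units.val_pow_eq_pow_val, ← map_pow, ← hord, pow_orderOf_eq_one, map_one, Units.val_one]
  haveI : NeZero (Fintype.card E - 1) := ⟨by omega⟩
  obtain ⟨i, hi, hi'⟩ := hpr.eq_pow_of_pow_eq_one hχ1
  obtain ⟨c, hc1, hc2, hc⟩ : ∃ c, 1 ≤ c ∧ c ≤ Fintype.card E - 1 ∧ j (ω : E) ^ c = θ ω := by
    by_cases h0 : i = 0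
    · refine ⟨Fintype.card E - 1, by omega, le_rfl, ?_⟩
      rw [hpr.pow_eq_one, ← hi', h0, pow_zero]
    · exact ⟨i, by omega, by omega, hi'⟩
  refine ⟨c, hc1, hc2, fun s => ?_⟩
  obtain ⟨l, rfl⟩ : ∃ l : ℕ, ω ^ l = s := by
    have h2 := hω s
    rwa [← mem_powers_iff_mem_zpowers, Submonoid.mem_powers_iff] at h2
  rw [map_pow, Units.val_pow_eq_pow_val, Units.val_pow_eq_pow_val, map_pow, ← hc, ← pow_mul, ← pow_mul, mul_comm]

variable {W Y : Type*} [Group W] [Group Y] {cs : CoxeterSystem (CoxeterMatrix.B 3) W} {p : ℕ}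
  {T : Subgroup Y} {nn : Fin 3 → Y} {X : (Fin 3 → ℤ) → Subgroup Y} {F : Type*} [Field F] {ι : Type} [Fintype ι]
  [DecidableEq ι] {P : Subgroup (GL ι F)} {E : Type*} [Field E] [Fintype E]
variable (R : RGD cs (isCartan 3) p T nn X) [Finite Y] [Finite W] [hp : Fact p.Prime] [CharP F p] [CharP E p]
  [Nonempty ι] (hG : GG cs (isCartan 3) T X = ⊤) (hT : ∀ s ∈ T, ∀ t ∈ T, s * t = t * s) {φ : Y →* GL ι F}
  (hφ : φ.range = P) (hP : ActsAbsolutelyIrreducibly (matrixSet P)) {σ : SL(2, E) →* Y} (N : Nd T X (2 : Fin 3) σ)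
include R hG hT hφ hP N

/-- **The Levi subgroup of the last node**: `|E| = |F| ^ 2`. -/
theorem levi_F (h1 : (1 : Fin 3) ∉ Jx cs (isCartan 3) X (lin (acRep φ))) {a : ℕ} (hF : Nat.card F = p ^ a)
    (hE : Nat.card E = Nat.card F ^ 2) : 20 ≤ Fintype.card ι := by
  have hchar : CharP (AlgebraicClosure F) p := charP_of_injective_algebraMap (algebraMap F _).injective p
  have hirr := ac_irr R hG hT hφ hP
  obtain ⟨c, hc, hc0, χ, hχ⟩ := exists_chi R hirr hT
  obtain ⟨j⟩ := H875.Psl2.exists_emb F E p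
  have hD := finrank_D R hirr hT
  have hne : ∀ t ∈ T, χ t ≠ 0 := by
    intro t ht h0
    have h2 := hχ t ht
    rw [h0, zero_smul] at h2
    have h3 := rho_inv_rho (lin (acRep φ)) t c
    rw [h2, map_zero] at h3
    exact hc0 h3.symm
  have hmul : ∀ s ∈ T, ∀ t ∈ T, χ (s * t) = χ s * χ t := by
    intro s hs t ht
    have h2 := hχ _ (mul_mem hs ht)
    rw [rho_mul, hχ t ht, map_smul, hχ s hs, smul_smul] at h2
    exact (smul_left_injective _ hc0 h2).symm.trans (mul_comm _ _)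
  have hdim := levi_mid R hirr h1 j N ?_
  · rwa [Module.finrank_fintype_fun_eq_card] at hdim
  intro g w hg
  have hgT : ∀ s : Eˣ, g⁻¹ * σ (hh s) * g ∈ T := by
    intro s
    have h2 := hg.inv.mem_normalizer
    have h3 := (Subgroup.mem_normalizer_iff.1 h2 (σ (hh s))).1 (N.tor s)
    rwa [inv_inv] at h3
  let θ : Eˣ →* (AlgebraicClosure F)ˣ :=
    { toFun := fun s => Units.mk0 (χ (g⁻¹ * σ (hh s) * g)) (hne _ (hgT s))
      map_one' := by
        apply Units.ext
        rw [Units.val_mk0, Units.val_one, hh_one, map_one, mul_one, inv_mul_cancel]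
        have h2 := hχ 1 (one_mem _)
        rw [rho_one] at h2
        have h3 : (1 : AlgebraicClosure F) • c = χ 1 • c := by rw [one_smul]; exact h2
        exact (smul_left_injective _ hc0 h3).symm
      map_mul' := by
        intro s t
        apply Units.ext
        rw [Units.val_mk0, Units.val_mul, Units.val_mk0, Units.val_mk0, ← hmul _ (hgT s) _ (hgT t), ← hh_mul, map_mul]
        congr 1
        group }
  obtain ⟨e, he1, he2, he⟩ := exists_exp j θ
  have hval : ∀ s : Eˣ, χ (g⁻¹ * σ (hh s) * g) = j s ^ e := he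
  refine ⟨e, he1, he2, ?_, fun s v hv => ?_⟩
  · -- the digits
    have hfin : Finite F := by
      apply Nat.finite_of_card_ne_zero
      rw [hF]
      exact pow_ne_zero _ hp.out.ne_zero
    have := Fintype.ofFinite F
    have hw : ∀ t : Eˣ, (j (t : E) ^ p ^ a) ^ e = j (t : E) ^ e := by
      intro t
      obtain ⟨b, hb⟩ := chi_mem R hG hφ hP hc hc0 hχ (hgT t)
      rw [hval] at hb
      rw [← pow_mul, mul_comm, pow_mul, ← hb, ← map_pow]
      congr 1
      rw [← hF, Nat.card_eq_fintype_card]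
      exact FiniteField.pow_card b
    have hd1 := H875.Fn.dvd_of_pow_eq hw (Nat.one_le_pow _ _ hp.out.pos)
    have hEf : Fintype.card E = p ^ (a * 2) := by rw [← Nat.card_eq_fintype_card, hE, hF, pow_mul]
    have ha0 : a ≠ 0 := by
      rintro rfl
      have := Finite.one_lt_card (α := F)
      rw [hF, pow_zero] at this
      omega
    rw [hEf] at hd1
    obtain ⟨r₀, h0, -, -, h3⟩ := H650.Ppd.exists_digits p (d := a) (s := 2) ha0 rfl (show e ≠ 0 by omega)
      (by rw [← hEf]; exact he2) hd1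
    rw [h3]
    have := H875.Fn.two_le_card_SS (p := p) h0
    nlinarith only [this]
  · obtain ⟨b, rfl⟩ := H650.Ppd.exists_smul_of_mem hD hc hc0 hv
    rw [map_smul, hχ _ (hgT s), hval, smul_comm]

end lingrp

end Cfsg.Agent.H948.Ppd
end

-- part: H650/Ppd/SpNd
section
set_option linter.all false
open scoped Cfsg.Agent.FastGrp

/-!
# The nodes of the symplectic groups (helper650, TEAM PPD)

* `Nd.ofH948` : the two definitions of `Nd` agree;
* `nd_L` : the last node of the symplectic frame;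
* **`nd_Sp`** : all the nodes.
-/

set_option autoImplicit false
set_option linter.unusedSectionVars false

namespace Cfsg.Agent.H650.Ppd

open Cfsg.Agent.ChevalleyStructure.CoxeterGeom Cfsg.Agent.Tits.Roots
open Cfsg.Agent.Nodes.Comb Cfsg.Agent.Nodes.Reps Cfsg.Agent.Nodes.WittRoot Cfsg.Agent.Nodes.BNOf
open Cfsg.Agent.Nodes.WittRGD Cfsg.Agent.Nodes.TypeC
open Cfsg.Agent.TitsThree.Siegel Cfsg.Agent.TitsThree.WittFrame Cfsg.Agent.TitsThree.SpIdent
open Cfsg.Agent.H62.FrameSL (phiL phiL_range phiL_apply linL_apply phiL_up phiL_lo)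
open Cfsg.Agent.H911.SLTwo (U Lo hh)
open scoped MatrixGroups

theorem Nd.ofH948 {I Y : Type*} [DecidableEq I] [Group Y] {T : Subgroup Y} {X : (I → ℤ) → Subgroup Y} {i : I}
    {E : Type*} [Field E] {σ : SL(2, E) →* Y} (h : H948.Ppd.Nd T X i σ) : Nd T X i σ := ⟨h.up, h.lo, h.tor⟩

variable {m : ℕ} {F : Type*} [Field F]

theorem mono_phiL_hh (i : Fin m) (s : Fˣ) : Mono (frame m F) (phiL (frame m F) i (hh s)) id := by
  have hs0 : (s : F) ≠ 0 := s.ne_zero
  have hs1 : ((s⁻¹ : Fˣ) : F) ≠ 0 := (s⁻¹).ne_zero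
  have hε := (form m F).ε_ne
  rintro ⟨k, b⟩
  rw [id, phiL_apply]
  by_cases hki : k = i
  · subst hki
    cases b
    · refine ⟨((s⁻¹ : Fˣ) : F), hs1, ?_⟩
      rw [linL_apply, H62.FrameSL.hf, H62.FrameSL.hs]
      simp only [H911.SLTwo.hh00, H911.SLTwo.hh01, H911.SLTwo.hh10, H911.SLTwo.hh11,
        mul_zero, inv_mul_cancel₀ hε, mul_one, add_zero, zero_smul]
      module
    · refine ⟨s, hs0, ?_⟩
      rw [linL_apply, H62.FrameSL.ht, H62.FrameSL.hs]
      simp only [H911.SLTwo.hh00, H911.SLTwo.hh01, H911.SLTwo.hh10, H911.SLTwo.hh11,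
        mul_zero, mul_one, add_zero, zero_smul]
      module
  · refine ⟨1, one_ne_zero, ?_⟩
    rw [linL_apply, H62.FrameSL.hn (frame m F) hki, H62.FrameSL.hn (frame m F) hki]
    simp only [mul_zero, add_zero, zero_smul, one_smul]

theorem mem_ZG {a : Fin m × Bool} {g : (Fin m ⊕ Fin m → F) ≃ₗ[F] (Fin m ⊕ Fin m → F)} :
    g ∈ ZG (frame m F) a ↔ ∃ c : F, g = (frame m F).Z a (adm c) := by
  constructor
  · rintro ⟨q, rfl⟩
    exact ⟨q.c, by rw [← eq_adm]⟩
  · rintro ⟨c, rfl⟩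
    exact ⟨_, rfl⟩

variable {G0 : Subgroup ((Fin m ⊕ Fin m → F) ≃ₗ[F] (Fin m ⊕ Fin m → F))}

/-- **The last node of the symplectic frame.** -/
theorem nd_L (hle : ∀ x, Nodes.WittRoot.rg (frame m F) x ≤ G0) {i : Fin m} (hi : ¬ (i : ℕ) + 1 < m) :
    ∃ σ : SL(2, F) →* G0, Nd ((Tor (frame m F) G0).subgroupOf G0)
      (fun x => (Nodes.WittRoot.rg (frame m F) x).subgroupOf G0) i σ := by
  have hnx : nx i = (i, true) := by unfold nx; rw [dif_neg hi]
  obtain ⟨σ, -, h⟩ := H948.Ppd.exists_nd (Fr := frame m F) (G0 := G0) hle (i := i) (phiL (frame m F) i) (fun y => by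
    rw [Nodes.WittRGD.rg_sr, hnx, PG_self, mem_ZG]
    constructor
    · rintro ⟨t, e⟩
      exact ⟨-t, (phiL_up i (-t)).trans (by rw [_root_.neg_neg, e])⟩
    · rintro ⟨t, rfl⟩
      exact ⟨-t, phiL_up i t⟩) (fun y => by
    rw [Nodes.WittRGD.rg_neg_sr, hnx, PG_self, mem_ZG]
    constructor
    · rintro ⟨t, e⟩
      exact ⟨t, (phiL_lo i t).trans e.symm⟩
    · rintro ⟨t, rfl⟩
      exact ⟨t, phiL_lo i t⟩) (mono_phiL_hh i)
  exact ⟨σ, Nd.ofH948 h⟩

/-- **The nodes of the symplectic groups.** -/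
theorem nd_Sp (hle : ∀ x, Nodes.WittRoot.rg (frame m F) x ≤ G0) (i : Fin m) :
    ∃ σ : SL(2, F) →* G0, Nd ((Tor (frame m F) G0).subgroupOf G0)
      (fun x => (Nodes.WittRoot.rg (frame m F) x).subgroupOf G0) i σ := by
  by_cases hi : (i : ℕ) + 1 < m
  · obtain ⟨σ, h⟩ := H948.Ppd.nd_long (Fr := frame m F) hle hi
    exact ⟨σ, Nd.ofH948 h⟩
  · exact nd_L hle hi

end Cfsg.Agent.H650.Ppd
end
end
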