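import Cfsg.Agent.H69.Ppd.Psu6Aux
import Cfsg.Prelude.Def_GeometricClasses
import Cfsg.Agent.H948.Ppd.PmBase
import Cfsg.Agent.H650.Ppd.Psl_m3
import Cfsg.Agent.SM.Ti.Box
import Cfsg.Agent.S0294
import Cfsg.Agent.H762.Ppd.PsuAux_m3
import Cfsg.Agent.H925.NatMain
import Cfsg.Agent.OddHalf.NI.OmegaPlus
import Cfsg.Agent.H905.MdK
import Cfsg.Agent.S0293
import Cfsg.Agent.H650.Ppd.SpTwo
import Cfsg.Agent.S0245
import Cfsg.Agent.FastGrp
import Cfsg.Agent.Prune
set_option linter.all false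

section
prune_inst 0x7fffefffbbfd73ffffff7e7fafd9dffc39939fffa6dff94bffe8e1ffabdfb39a09ed2bad8de0b0fe1ed7621418b87853ff7eeeffe26bdc7ffffd5ff45ffbee4ff5f7bd0911d68c340f380ff703f07f8e7f3fffffffffffffffffffffffffffbeffbfffffffff

-- part: H948/Ppd/PmRank
section
prune_inst 0x800000000000000400000000000000000000000008001000000000004400000000000000000000000000000000000000000000000000000000000000000040000000000000000000000000000000000000000000000000000000000000000000
set_option linter.all false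
open scoped Cfsg.Agent.FastGrp

-- part: H353/Ker/Cone
section
/-!
# Products of Frobenius twists on a cone (helper353, for TEAM PPD, task PPD-Q (2), (3))

`K` a finite field with `p ^ e` elements, `M` a `K`-space, `σ : K →+* k`, `𝒮 ⊆ M` a cone (the singular vectors of a form)
with functionals `B x`, `x ∈ 𝒮`.

* `MS σ p T f` : `f : (ℕ → M) → k` depends on the variables `t ∈ T` and is semilinear in the variable `t` with
  respect to `a ↦ σ a ^ p ^ t`;
* `Cone p j 𝒮 B` : the geometry;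
* **`MS.eq_zero`** : if `f (x, …, x) = 0` for `x ∈ 𝒮`, then `f = 0`;
* `indep` : the functions `x ↦ ∏ t ∈ T, σ (L (i t) x) ^ p ^ t` are linearly independent on `𝒮`;
* **`rk_cone`** : the matrix `(σ (B z x) ^ ∑ t ∈ T, p ^ t)` has rank `d ^ |T|`.
-/

set_option autoImplicit false
set_option linter.unusedSectionVars false
set_option linter.style.haveILetI false

namespace Cfsg.Agent.H353.Ker

open Finset Function Polynomial

variable {K : Type*} [Field K] {k : Type*} [Field k] {M : Type*} [AddCommGroup M] [Module K M]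

/-- `f` is a multisemilinear form in the variables `t ∈ T`. -/
structure MS (σ : K →+* k) (p : ℕ) (T : Finset ℕ) (f : (ℕ → M) → k) : Prop where
  dep : ∀ x y : ℕ → M, (∀ t ∈ T, x t = y t) → f x = f y
  add : ∀ t ∈ T, ∀ (x : ℕ → M) (u v : M), f (_root_.Function.update x t (u + v)) = f (_root_.Function.update x t u) + f (_root_.Function.update x t v)
  smul : ∀ t ∈ T, ∀ (x : ℕ → M) (a : K) (u : M), f (_root_.Function.update x t (a • u)) = σ a ^ p ^ t * f (_root_.Function.update x t u)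

/-- the assignment `y` on `S`, `x` elsewhere -/
def mix (S : Finset ℕ) (x y : M) : ℕ → M := fun t => if t ∈ S then y else x

variable {σ : K →+* k} {p : ℕ} {T : Finset ℕ} {f g : (ℕ → M) → k}

theorem MS.fix {t₀ : ℕ} (h : MS σ p (insert t₀ T) f) (ht : t₀ ∉ T) (y : M) :
    MS σ p T (fun x => f (_root_.Function.update x t₀ y)) where
  dep x x' hx := by
    refine h.dep _ _ fun t ht' => ?_
    rcases Finset.mem_insert.1 ht' with rfl | ht'
    · rw [update_self, update_self]
    · have hne : t ≠ t₀ := fun e => ht (e ▸ ht')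
      rw [update_of_ne hne, update_of_ne hne, hx t ht']
  add t ht' x u v := by
    have hne : t ≠ t₀ := fun e => ht (e ▸ ht')
    rw [update_comm hne, update_comm hne, update_comm hne]
    exact h.add t (Finset.mem_insert_of_mem ht') _ _ _
  smul t ht' x a u := by
    have hne : t ≠ t₀ := fun e => ht (e ▸ ht')
    rw [update_comm hne, update_comm hne]
    exact h.smul t (Finset.mem_insert_of_mem ht') _ _ _

/-- expansion -/
theorem MS.expand (h : MS σ p T f) (x y : M) (a : K) :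
    f (fun _ => x + a • y) = ∑ S ∈ T.powerset, σ a ^ (∑ t ∈ S, p ^ t) * f (mix S x y) := by
  induction T using Finset.induction_on generalizing f with
  | empty =>
    rw [Finset.powerset_empty, Finset.sum_singleton, Finset.sum_empty, pow_zero, one_mul]
    exact h.dep _ _ fun t ht => absurd ht (Finset.notMem_empty t)
  | insert t₀ T ht ih =>
    have e1 : f (fun _ => x + a • y) = f (_root_.Function.update (fun _ => x + a • y) t₀ x) +
        σ a ^ p ^ t₀ * f (_root_.Function.update (fun _ => x + a • y) t₀ y) := by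
      rw [← h.smul t₀ (Finset.mem_insert_self _ _), ← h.add t₀ (Finset.mem_insert_self _ _)]
      rw [update_eq_self_iff.2 rfl]
    rw [e1, ih (h.fix ht x), ih (h.fix ht y), Finset.sum_powerset_insert ht, Finset.mul_sum]
    congr 1
    · refine Finset.sum_congr rfl fun S hS => ?_
      congr 2
      funext t
      by_cases hte : t = t₀
      · subst hte
        have : t ∉ S := fun h' => ht (Finset.mem_powerset.1 hS h')
        rw [update_self, mix, if_neg this]
      · rw [update_of_ne hte]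
    · refine Finset.sum_congr rfl fun S hS => ?_
      have hn : t₀ ∉ S := fun h' => ht (Finset.mem_powerset.1 hS h')
      rw [Finset.sum_insert hn, pow_add, mul_assoc]
      congr 3
      funext t
      by_cases hte : t = t₀
      · subst hte
        rw [update_self, mix, if_pos (Finset.mem_insert_self _ _)]
      · rw [update_of_ne hte]
        by_cases htS : t ∈ S
        · rw [mix, mix, if_pos htS, if_pos (Finset.mem_insert_of_mem htS)]
        · rw [mix, mix, if_neg htS, if_neg (by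
            rw [Finset.mem_insert]
            rintro (h' | h')
            · exact hte h'
            · exact htS h')]

/-- the polynomial of the expansion -/
noncomputable def ex (p : ℕ) (T : Finset ℕ) (f : (ℕ → M) → k) (x y : M) : k[X] :=
  ∑ S ∈ T.powerset, monomial (∑ t ∈ S, p ^ t) (f (mix S x y))

theorem MS.eval_ex (h : MS σ p T f) (x y : M) (a : K) : (ex p T f x y).eval (σ a) = f (fun _ => x + a • y) := by
  rw [h.expand, ex, eval_finsetSum]
  refine Finset.sum_congr rfl fun S _ => ?_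
  rw [eval_monomial, mul_comm]

theorem coeff_ex (hp : 2 ≤ p) (f : (ℕ → M) → k) (x y : M) {S : Finset ℕ} (hS : S ⊆ T) :
    (ex p T f x y).coeff (∑ t ∈ S, p ^ t) = f (mix S x y) := by
  rw [ex, finsetSum_coeff, Finset.sum_eq_single S]
  · rw [coeff_monomial, if_pos rfl]
  · intro S' _ hne
    rw [coeff_monomial, if_neg fun e => hne (Finset.geomSum_injective hp e)]
  · intro h'
    exact absurd (Finset.mem_powerset.2 hS) h'

theorem coeff_ex_zero (hp : 2 ≤ p) (f : (ℕ → M) → k) (x y : M) {S : Finset ℕ} (hS : ¬ S ⊆ T) :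
    (ex p T f x y).coeff (∑ t ∈ S, p ^ t) = 0 := by
  rw [ex, finsetSum_coeff]
  refine Finset.sum_eq_zero fun S' hS' => ?_
  rw [coeff_monomial, if_neg fun e => hS ?_]
  rw [← Finset.geomSum_injective hp e]
  exact Finset.mem_powerset.1 hS'

theorem natDegree_ex_le (f : (ℕ → M) → k) (x y : M) : (ex p T f x y).natDegree ≤ ∑ t ∈ T, p ^ t := by
  rw [ex]
  refine natDegree_sum_le_of_forall_le _ _ fun S hS => ?_
  refine (natDegree_monomial_le _).trans ?_
  exact Finset.sum_le_sum_of_subset (Finset.mem_powerset.1 hS)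

theorem sum_lt {e : ℕ} (hp : 2 ≤ p) (hT : ∀ t ∈ T, t < e) : ∑ t ∈ T, p ^ t < p ^ e :=
  Nat.geomSum_lt hp hT

variable [Finite K]

theorem poly_zero {P : k[X]} (hP : P.natDegree < Nat.card K) (h : ∀ a : K, P.eval (σ a) = 0) : P = 0 := by
  have : Fintype K := Fintype.ofFinite K
  rw [Nat.card_eq_fintype_card] at hP
  exact eq_zero_of_natDegree_lt_card_of_eval_eq_zero P σ.injective h hP

/-- **polarisation** -/
theorem MS.polar {e : ℕ} (hp : 2 ≤ p) (hK : Nat.card K = p ^ e) (hT : ∀ t ∈ T, t < e) (h : MS σ p T f) {x y : M}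
    (h0 : ∀ a : K, f (fun _ => x + a • y) = 0) {S : Finset ℕ} (hS : S ⊆ T) : f (mix S x y) = 0 := by
  have h1 : ex p T f x y = 0 := by
    refine poly_zero (σ := σ) ?_ fun a => by rw [h.eval_ex, h0 a]
    rw [hK]
    exact lt_of_le_of_lt (natDegree_ex_le f x y) (sum_lt hp hT)
  rw [← coeff_ex hp f x y hS, h1, coeff_zero]

/-- comparison of two forms -/
theorem MS.compare {e : ℕ} (hp : 2 ≤ p) (hK : Nat.card K = p ^ e) (hT : ∀ t ∈ T, t < e) (hf : MS σ p T f)
    (hg : MS σ p T g) {x y : M} {s : ℕ} (hs : s < e) (hsT : s ∉ T)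
    (h0 : ∀ a : K, f (fun _ => x + a • y) = σ a ^ p ^ s * g (fun _ => x + a • y)) : g (fun _ => x) = 0 := by
  have h1 : ex p T f x y - X ^ (p ^ s) * ex p T g x y = 0 := by
    refine poly_zero (σ := σ) ?_ fun a => by
      rw [eval_sub, eval_mul, eval_pow, eval_X, hf.eval_ex, hg.eval_ex, h0 a, sub_self]
    have h2 : ∑ t ∈ insert s T, p ^ t < p ^ e := sum_lt hp fun t ht => by
      rcases Finset.mem_insert.1 ht with rfl | ht
      · exact hs
      · exact hT t ht
    rw [Finset.sum_insert hsT] at h2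
    rw [hK]
    refine lt_of_le_of_lt (natDegree_sub_le _ _) (max_lt ?_ ?_)
    · exact lt_of_le_of_lt (natDegree_ex_le f x y) (by omega)
    · refine lt_of_le_of_lt natDegree_mul_le ?_
      rw [natDegree_X_pow]
      have := natDegree_ex_le (p := p) (T := T) g x y
      omega
  have h2 := congrArg (fun P => P.coeff (p ^ s)) h1
  simp only [coeff_sub, coeff_zero] at h2
  have h3 := coeff_ex_zero (T := T) hp f x y (S := {s}) (by
    rw [Finset.singleton_subset_iff]
    exact hsT)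
  rw [Finset.sum_singleton] at h3
  have h4 := coeff_ex (T := T) hp g x y (S := ∅) (Finset.empty_subset _)
  rw [Finset.sum_empty] at h4
  rw [h3, coeff_X_pow_mul', if_pos le_rfl, Nat.sub_self, h4, zero_sub, neg_eq_zero] at h2
  exact h2

/-- The geometry of the singular vectors. -/
structure Cone (p j : ℕ) (𝒮 : Set M) (B : M → M → K) : Prop where
  ne : 𝒮.Nonempty
  span : ∀ x ∈ 𝒮, ∀ y, B x y = 0 → y ∈ Submodule.span K {y | ∀ a : K, x + a • y ∈ 𝒮 ∨ x + a • y = 0}
  add : ∀ x y z, B x (y + z) = B x y + B x z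
  smul : ∀ x (a : K) y, B x (a • y) = a * B x y
  hyp : ∀ x ∈ 𝒮, ∃ u v w : M, ∀ a : K, x + a • u ∈ 𝒮 ∧ B (x + a • u) v = 1 ∧ B (x + a • u) w = a ^ p ^ j

variable {j : ℕ} {𝒮 : Set M} {B : M → M → K}

theorem pow_mod {e : ℕ} (hK : Nat.card K = p ^ e) (a : K) (n : ℕ) : a ^ p ^ n = a ^ p ^ (n % e) := by
  have key : ∀ m r : ℕ, a ^ p ^ (e * m + r) = a ^ p ^ r := by
    intro m r
    induction m with
    | zero => rw [mul_zero, zero_add]
    | succ m ih =>
      have e1 : e * (m + 1) + r = e + (e * m + r) := by ring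
      have e2 : a ^ p ^ e = a := by
        have : Fintype K := Fintype.ofFinite K
        rw [← hK, Nat.card_eq_fintype_card, FiniteField.pow_card]
      rw [e1, pow_add, pow_mul, e2, ih]
  conv_lhs => rw [← Nat.div_add_mod n e]
  exact key _ _

/-- **the theorem**: a form vanishing on the diagonal of the cone is zero -/
theorem MS.eq_zero {e : ℕ} (hp : 2 ≤ p) (hK : Nat.card K = p ^ e) (hC : Cone p j 𝒮 B) :
    ∀ (T : Finset ℕ), (∀ t ∈ T, t < e) → (∀ t ∈ T, (t + j) % e ∉ T.erase t) → ∀ f : (ℕ → M) → k,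
      MS σ p T f → (∀ x ∈ 𝒮, f (fun _ => x) = 0) → ∀ x, f x = 0 := by
  intro T
  induction T using Finset.induction_on with
  | empty =>
    intro _ _ f hf h0 x
    obtain ⟨z, hz⟩ := hC.ne
    rw [hf.dep x (fun _ => z) fun t ht => absurd ht (Finset.notMem_empty t)]
    exact h0 z hz
  | insert t₀ T ht ih =>
    intro hT hj f hf h0 x
    have hT' : ∀ t ∈ T, t < e := fun t h' => hT t (Finset.mem_insert_of_mem h')
    have ht₀ := hT t₀ (Finset.mem_insert_self _ _)
    -- the form vanishes at zero too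
    have h00 : f (fun _ => (0 : M)) = 0 := by
      have h1 := hf.smul t₀ (Finset.mem_insert_self _ _) (fun _ => 0) 0 0
      rw [zero_smul, update_eq_self_iff.2 rfl, map_zero, zero_pow (pow_ne_zero _ (by omega)), zero_mul] at h1
      exact h1
    have key : ∀ z ∈ 𝒮, ∀ y, f (_root_.Function.update (fun _ => z) t₀ y) = 0 := by
      -- it vanishes on the kernel of `B z`
      have k1 : ∀ z ∈ 𝒮, ∀ y, B z y = 0 → f (_root_.Function.update (fun _ => z) t₀ y) = 0 := by
        intro z hz y hy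
        let L : Submodule K M :=
          { carrier := {y | f (_root_.Function.update (fun _ => z) t₀ y) = 0}
            zero_mem' := by
              have h1 := hf.smul t₀ (Finset.mem_insert_self _ _) (fun _ => z) 0 0
              rwa [zero_smul, map_zero, zero_pow (pow_ne_zero _ (by omega)), zero_mul] at h1
            add_mem' := by
              intro u v (hu : f _ = 0) (hv : f _ = 0)
              change f _ = 0
              rw [hf.add t₀ (Finset.mem_insert_self _ _), hu, hv, add_zero]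
            smul_mem' := by
              intro a u (hu : f _ = 0)
              change f _ = 0
              rw [hf.smul t₀ (Finset.mem_insert_self _ _), hu, mul_zero] }
        have hle : Submodule.span K {y | ∀ a : K, z + a • y ∈ 𝒮 ∨ z + a • y = 0} ≤ L := by
          rw [Submodule.span_le]
          intro y hy'
          have h1 := hf.polar hp hK hT (x := z) (y := y) (fun a => by
            rcases hy' a with h2 | h2
            · exact h0 _ h2
            · rw [h2]
              exact h00) (S := {t₀}) (by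
            rw [Finset.singleton_subset_iff]
            exact Finset.mem_insert_self _ _)
          change f _ = 0
          rw [← h1]
          congr 1
          funext t
          by_cases hte : t = t₀
          · subst hte
            rw [update_self, mix, if_pos (Finset.mem_singleton_self _)]
          · rw [update_of_ne hte, mix, if_neg (by rwa [Finset.mem_singleton])]
        exact hle (hC.span z hz y hy)
      -- so it is a multiple of `B z`
      have k2 : ∀ z ∈ 𝒮, ∀ v, B z v = 1 → ∀ y, f (_root_.Function.update (fun _ => z) t₀ y) =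
          σ (B z y) ^ p ^ t₀ * f (_root_.Function.update (fun _ => z) t₀ v) := by
        intro z hz v hv y
        have h1 : B z (y + (-(B z y)) • v) = 0 := by
          rw [hC.add, hC.smul, hv, mul_one, add_neg_cancel]
        have h2 := k1 z hz _ h1
        have h3 : f (_root_.Function.update (fun _ => z) t₀ y) = f (_root_.Function.update (fun _ => z) t₀ (y + (-(B z y)) • v)) +
            f (_root_.Function.update (fun _ => z) t₀ ((B z y) • v)) := by
          rw [← hf.add t₀ (Finset.mem_insert_self _ _), neg_smul, neg_add_cancel_right]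
        rw [h3, h2, zero_add, hf.smul t₀ (Finset.mem_insert_self _ _)]
      intro z hz y
      obtain ⟨u, v, w, huvw⟩ := hC.hyp z hz
      have h1 : ∀ a : K, (fun x => f (update x t₀ w)) (fun _ => z + a • u) =
          σ a ^ p ^ ((t₀ + j) % e) * (fun x => f (update x t₀ v)) (fun _ => z + a • u) := by
        intro a
        obtain ⟨e1, e2, e3⟩ := huvw a
        have h2 := k2 _ e1 v e2 w
        simp only
        rw [h2, e3]
        congr 1
        rw [← map_pow, ← map_pow, ← pow_mod hK, ← pow_mul, ← pow_add, add_comm j]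
      have hs : (t₀ + j) % e ∉ T := by
        have h2 := hj t₀ (Finset.mem_insert_self _ _)
        rwa [Finset.erase_insert ht] at h2
      have h2 := MS.compare hp hK hT' (hf.fix ht w) (hf.fix ht v) (Nat.mod_lt _ (by omega)) hs h1
      obtain ⟨e1, e2, -⟩ := huvw 0
      rw [zero_smul, add_zero] at e1 e2
      rw [k2 z hz v e2 y, h2, mul_zero]
    have h1 := ih hT' (fun t h' => by
      intro hmem
      exact hj t (Finset.mem_insert_of_mem h') (Finset.erase_subset_erase _ (Finset.subset_insert _ _) hmem))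
      (fun z => f (_root_.Function.update z t₀ (x t₀))) (hf.fix ht (x t₀)) (fun z hz => key z hz _) x
    rwa [update_eq_self] at h1

/-! ### linear independence -/

section indep

variable {ι : Type*} [Fintype ι] [DecidableEq ι] {j' : ℕ} {L : ι → M → K} {e : ℕ}

/-- the slot of the variable `t` -/
def slot (e j' : ℕ) (T : Finset ℕ) (t : T) : ℕ := ((t : ℕ) + j') % e

theorem slot_inj (hT : ∀ t ∈ T, t < e) : Injective (slot e j' T) := by
  intro a b hab
  have h1 : ((a : ℕ) + j') % e = ((b : ℕ) + j') % e := hab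
  have h2 : (a : ℕ) ≡ b [MOD e] := Nat.ModEq.add_right_cancel' j' h1
  have h3 : (a : ℕ) % e = (b : ℕ) % e := h2
  rw [Nat.mod_eq_of_lt (hT a a.2), Nat.mod_eq_of_lt (hT b b.2)] at h3
  exact Subtype.ext h3

/-- the form with coefficients `c` -/
noncomputable def form (σ : K →+* k) (p e j' : ℕ) (T : Finset ℕ) (L : ι → M → K) (c : (T → ι) → k) (x : ℕ → M) : k :=
  ∑ i : T → ι, c i * ∏ t : T, σ (L (i t) (x (slot e j' T t))) ^ p ^ (t : ℕ)

theorem prod_update (hT : ∀ t ∈ T, t < e) (i : T → ι) (x : ℕ → M) (t₁ : T) (u : M) :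
    ∏ t : T, σ (L (i t) (_root_.Function.update x (slot e j' T t₁) u (slot e j' T t))) ^ p ^ (t : ℕ) =
      σ (L (i t₁) u) ^ p ^ (t₁ : ℕ) *
        ∏ t ∈ (univ : Finset T).erase t₁, σ (L (i t) (x (slot e j' T t))) ^ p ^ (t : ℕ) := by
  rw [← Finset.mul_prod_erase univ _ (mem_univ t₁), update_self]
  congr 1
  refine Finset.prod_congr rfl fun t ht => ?_
  rw [update_of_ne fun h => (Finset.mem_erase.1 ht).1 (slot_inj hT h)]

theorem ms_form [Fact p.Prime] [CharP k p] (hK : Nat.card K = p ^ e) (hT : ∀ t ∈ T, t < e)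
    (hadd : ∀ i u v, L i (u + v) = L i u + L i v)
    (hsmul : ∀ i (a : K) u, L i (a • u) = a ^ p ^ j' * L i u) (c : (T → ι) → k) :
    MS σ p (univ.image (slot e j' T)) (form σ p e j' T L c) where
  dep x y hxy := by
    unfold form
    refine Finset.sum_congr rfl fun i _ => ?_
    congr 1
    refine Finset.prod_congr rfl fun t _ => ?_
    rw [hxy _ (Finset.mem_image_of_mem _ (mem_univ t))]
  add s hs x u v := by
    obtain ⟨t₁, -, rfl⟩ := Finset.mem_image.1 hs
    unfold form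
    rw [← Finset.sum_add_distrib]
    refine Finset.sum_congr rfl fun i _ => ?_
    rw [prod_update hT, prod_update hT, prod_update hT, hadd, map_add, add_pow_char_pow, add_mul, mul_add]
  smul s hs x a u := by
    obtain ⟨t₁, -, rfl⟩ := Finset.mem_image.1 hs
    unfold form
    rw [Finset.mul_sum]
    refine Finset.sum_congr rfl fun i _ => ?_
    have e1 : σ (a ^ p ^ j') ^ p ^ (t₁ : ℕ) = σ a ^ p ^ slot e j' T t₁ := by
      rw [← map_pow, ← map_pow, slot, ← pow_mod hK, ← pow_mul, ← pow_add, add_comm]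
    rw [prod_update hT, prod_update hT, hsmul, map_mul, mul_pow, e1]
    ring

/-- **linear independence** -/
theorem indep [Fact p.Prime] [CharP k p] (hK : Nat.card K = p ^ e) (hC : Cone p j 𝒮 B) (hT : ∀ t ∈ T, t < e)
    (hj : ∀ s ∈ univ.image (slot e j' T), (s + j) % e ∉ (univ.image (slot e j' T)).erase s)
    (hadd : ∀ i u v, L i (u + v) = L i u + L i v)
    (hsmul : ∀ i (a : K) u, L i (a • u) = a ^ p ^ j' * L i u) {d : ι → M}
    (hd : ∀ i l, L i (d l) = if i = l then 1 else 0) (c : (T → ι) → k)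
    (h0 : ∀ x ∈ 𝒮, ∑ i : T → ι, c i * ∏ t : T, σ (L (i t) x) ^ p ^ (t : ℕ) = 0) : c = 0 := by
  have hp : p.Prime := Fact.out
  have he : ∀ s ∈ univ.image (slot e j' T), s < e := by
    intro s hs
    obtain ⟨t, -, rfl⟩ := Finset.mem_image.1 hs
    exact Nat.mod_lt _ (lt_of_le_of_lt (Nat.zero_le _) (hT t t.2))
  have h1 := MS.eq_zero hp.two_le hK hC _ he hj _ (ms_form (σ := σ) hK hT hadd hsmul c) h0
  funext i₀
  have h2 := h1 (extend (slot e j' T) (fun t => d (i₀ t)) 0)
  unfold form at h2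
  simp only [(slot_inj hT).extend_apply, hd] at h2
  rw [Finset.sum_eq_single i₀] at h2
  · simpa only [_root_.Pi.zero_apply, _root_.Finset.univ_eq_attach, ↓ _root_.reduceIte, _root_.map_one, _root_.one_pow, _root_.Finset.prod_const_one, _root_.mul_one] using h2
  · intro i _ hne
    obtain ⟨t, ht⟩ : ∃ t, i t ≠ i₀ t := by
      by_contra hcon
      push Not at hcon
      exact hne (_root_.funext hcon)
    rw [Finset.prod_eq_zero (mem_univ t), mul_zero]
    rw [if_neg ht, map_zero, zero_pow (pow_ne_zero _ hp.ne_zero)]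
  · intro h'
    exact absurd (mem_univ _) h'

/-- **The rank.** -/
theorem rk_cone [Fact p.Prime] [CharP k p] (hK : Nat.card K = p ^ e) (hC : Cone p j 𝒮 B) (hT : ∀ t ∈ T, t < e)
    (hj : ∀ t ∈ T, (t + j) % e ∉ T.erase t)
    (hj' : ∀ s ∈ univ.image (slot e j T), (s + j) % e ∉ (univ.image (slot e j T)).erase s)
    (b : Module.Basis ι K M) (hB1 : ∀ z z' y, B (z + z') y = B z y + B z' y)
    (hB2 : ∀ (a : K) z y, B (a • z) y = a ^ p ^ j * B z y)
    {d : ι → M} (hd : ∀ i l, B (d l) (b i) = if i = l then 1 else 0)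
    {α β : Type*} (y : α → Module.Dual K M) (hy : ∀ s ∈ 𝒮, ∃ a, ∃ c : K, c ≠ 0 ∧ ∀ v, y a v = c * B s v)
    (x : β → M) (hx : ∀ s ∈ 𝒮, ∃ a, ∃ c : K, c ≠ 0 ∧ x a = c • s) :
    rk (fun (a : α) (c : β) => σ (y a (x c)) ^ ∑ t ∈ T, p ^ t) = Fintype.card ι ^ T.card := by
  have hcard : Fintype.card (T → ι) = Fintype.card ι ^ T.card := by
    rw [Fintype.card_fun, Fintype.card_coe]
  rw [← hcard]
  have him : univ.image (slot e 0 T) = T := by
    ext s
    rw [Finset.mem_image]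
    constructor
    · rintro ⟨t, -, rfl⟩
      rw [slot, add_zero, Nat.mod_eq_of_lt (hT t t.2)]
      exact t.2
    · intro hs
      exact ⟨⟨s, hs⟩, mem_univ _, by rw [slot, add_zero, Nat.mod_eq_of_lt (hT s hs)]⟩
  refine rk_eq_of_factor _ (fun (i : T → ι) (a : α) => ∏ t : T, σ (y a (b (i t))) ^ p ^ (t : ℕ))
    (fun (i : T → ι) (a : β) => ∏ t : T, σ (b.coord (i t) (x a)) ^ p ^ (t : ℕ)) ?_ ?_ ?_
  · intro a c
    have e1 : y a (x c) = ∑ l, y a (b l) * b.coord l (x c) := by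
      conv_lhs => rw [← b.sum_repr (x c)]
      rw [map_sum]
      refine Finset.sum_congr rfl fun l _ => ?_
      rw [map_smul, smul_eq_mul, mul_comm]
      rfl
    rw [← Finset.prod_pow_eq_pow_sum, e1]
    have e2 : ∀ t : ℕ, σ (∑ l, y a (b l) * b.coord l (x c)) ^ p ^ t =
        ∑ l, σ (y a (b l)) ^ p ^ t * σ (b.coord l (x c)) ^ p ^ t := by
      intro t
      rw [map_sum, sum_pow_char_pow]
      refine Finset.sum_congr rfl fun l _ => ?_
      rw [map_mul, mul_pow]
    simp only [e2]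
    rw [← Finset.prod_coe_sort T, Finset.prod_univ_sum, Fintype.piFinset_univ]
    exact Finset.sum_congr rfl fun i _ => Finset.prod_mul_distrib
  · intro c hc
    refine indep (L := fun i z => B z (b i)) hK hC hT hj' (fun i u v => hB1 u v _) (fun i a u => hB2 a u _) hd c
      (σ := σ) fun s hs => ?_
    obtain ⟨a, r, hr, hv⟩ := hy s hs
    have h1 := hc a
    have h2 : ∑ i : T → ι, c i * ∏ t : T, σ (y a (b (i t))) ^ p ^ (t : ℕ) =
        (∏ t : T, σ r ^ p ^ (t : ℕ)) * ∑ i : T → ι, c i * ∏ t : T, σ (B s (b (i t))) ^ p ^ (t : ℕ) := by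
      rw [Finset.mul_sum]
      refine Finset.sum_congr rfl fun i _ => ?_
      rw [mul_left_comm, ← Finset.prod_mul_distrib]
      congr 1
      refine Finset.prod_congr rfl fun t _ => ?_
      rw [hv, map_mul, mul_pow]
    rw [h2] at h1
    refine (mul_eq_zero.1 h1).resolve_left ?_
    exact Finset.prod_ne_zero_iff.2 fun t _ => pow_ne_zero _ ((_root_.map_ne_zero σ).2 hr)
  · intro c hc
    refine indep (L := fun i z => b.coord i z) (j' := 0) hK hC hT (by rw [him]; exact hj) (fun i u v => map_add _ _ _)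
      (fun i a u => by rw [pow_zero, pow_one, map_smul, smul_eq_mul]) (d := b) (fun i l => ?_) c (σ := σ)
      fun s hs => ?_
    · rw [Module.Basis.coord_apply, Module.Basis.repr_self, Finsupp.single_apply]
      simp only [eq_comm]
    · obtain ⟨a, r, hr, hv⟩ := hx s hs
      have h1 := hc a
      have h2 : ∑ i : T → ι, c i * ∏ t : T, σ (b.coord (i t) (x a)) ^ p ^ (t : ℕ) =
          (∏ t : T, σ r ^ p ^ (t : ℕ)) * ∑ i : T → ι, c i * ∏ t : T, σ (b.coord (i t) s) ^ p ^ (t : ℕ) := by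
        rw [Finset.mul_sum]
        refine Finset.sum_congr rfl fun i _ => ?_
        rw [mul_left_comm, ← Finset.prod_mul_distrib]
        congr 1
        refine Finset.prod_congr rfl fun t _ => ?_
        rw [hv, map_smul, smul_eq_mul, map_mul, mul_pow]
      rw [h2] at h1
      refine (mul_eq_zero.1 h1).resolve_left ?_
      exact Finset.prod_ne_zero_iff.2 fun t _ => pow_ne_zero _ ((_root_.map_ne_zero σ).2 hr)

end indep

end Cfsg.Agent.H353.Ker
end

-- part: H353/Ker/Forms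
section
/-!
# Powers of a form on its singular vectors (helper353, for TEAM PPD, task PPD-Q (2), (3))

* `Pol p j Sg B` : a polarity (quadratic, hermitian), `Sg` the singular vectors; `Pol.cone`, `Pol.rk_eq`;
* **`rk_quad`** : `Q` a nondegenerate quadratic form with a totally singular plane, over a field with `p ^ e`
  elements: the matrix `(σ (B x y) ^ ∑ t ∈ T, p ^ t)`, `x`, `y` singular, `T ⊆ {0, …, e - 1}`, has rank `(dim M) ^ |T|`;
* **`rk_herm`** : the same for a hermitian form over a field with `p ^ (2 j)` elements, if `t + j mod 2 j` is not in `T`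
  for `t ∈ T`.
-/

set_option autoImplicit false
set_option linter.unusedSectionVars false
set_option linter.style.haveILetI false

namespace Cfsg.Agent.H353.Ker

open Finset Function

variable {K : Type*} [Field K] {k : Type*} [Field k] {M : Type*} [AddCommGroup M] [Module K M]

/-- A polarity with singular vectors `Sg`. -/
structure Pol (p j : ℕ) (Sg : M → Prop) (B : M → M → K) : Prop where
  add_right : ∀ x y z, B x (y + z) = B x y + B x z
  smul_right : ∀ x (a : K) y, B x (a • y) = a * B x y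
  add_left : ∀ x y z, B (x + y) z = B x z + B y z
  smul_left : ∀ (a : K) x y, B (a • x) y = a ^ p ^ j * B x y
  refl : ∀ x y, B x y = 0 → B y x = 0
  sg_smul : ∀ (a : K) x, Sg x → Sg (a • x)
  sg_add : ∀ x y, Sg x → Sg y → B x y = 0 → Sg (x + y)
  sg_self : ∀ x, Sg x → B x x = 0
  corr : ∀ u y, Sg u → B u y ≠ 0 → ∃ c : K, Sg (y + c • u)
  nd : ∀ x, (∀ y, B x y = 0) → x = 0

theorem exists_root {p : ℕ} [Fact p.Prime] [CharP K p] [Finite K] (j : ℕ) (a : K) : ∃ c : K, c ^ p ^ j = a :=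
  Finite.surjective_of_injective (iterateFrobenius K p j).injective a

namespace Pol

variable {p j : ℕ} {Sg : M → Prop} {B : M → M → K} (h : Pol p j Sg B)
include h

theorem zero_right (x : M) : B x 0 = 0 := by
  have := h.smul_right x 0 0
  rwa [zero_smul, zero_mul] at this

theorem zero_left (x : M) : B 0 x = 0 := h.refl _ _ (h.zero_right x)

theorem smul_left_zero {x y : M} (a : K) (hxy : B x y = 0) : B (a • x) y = 0 := by
  rw [h.smul_left, hxy, mul_zero]

/-- two vectors dual to `x`, `u` -/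
theorem dual_pair [Fact p.Prime] [CharP K p] [Finite K] {x u : M} (hx : x ≠ 0) (hu : ∀ c : K, u + c • x ≠ 0) :
    ∃ v w, B x v = 1 ∧ B u v = 0 ∧ B x w = 0 ∧ B u w = 1 := by
  obtain ⟨v₀', hv₀'⟩ : ∃ y, B x y ≠ 0 := by
    by_contra hcon
    push Not at hcon
    exact hx (h.nd x hcon)
  obtain ⟨v₀, hv₀⟩ : ∃ y, B x y = 1 := ⟨(B x v₀')⁻¹ • v₀', by rw [h.smul_right, inv_mul_cancel₀ hv₀']⟩
  obtain ⟨w₀, hw₀, hw₀'⟩ : ∃ y, B x y = 0 ∧ B u y ≠ 0 := by
    by_contra hcon
    push Not at hcon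
    -- `B u = B u v₀ * B x`
    obtain ⟨c, hc⟩ := exists_root (p := p) j (-(B u v₀))
    apply hu c
    refine h.nd _ fun y => ?_
    have h1 : B x (y + (-(B x y)) • v₀) = 0 := by
      rw [h.add_right, h.smul_right, hv₀, mul_one, add_neg_cancel]
    have h2 := hcon _ h1
    rw [h.add_right, h.smul_right] at h2
    rw [h.add_left, h.smul_left, hc]
    linear_combination h2
  obtain ⟨w, hw, hw'⟩ : ∃ y, B x y = 0 ∧ B u y = 1 := ⟨(B u w₀)⁻¹ • w₀, by rw [h.smul_right, hw₀, mul_zero], by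
    rw [h.smul_right, inv_mul_cancel₀ hw₀']⟩
  refine ⟨v₀ + (-(B u v₀)) • w, w, ?_, ?_, hw, hw'⟩
  · rw [h.add_right, h.smul_right, hw, mul_zero, add_zero, hv₀]
  · rw [h.add_right, h.smul_right, hw', mul_one, add_neg_cancel]

/-- a singular vector orthogonal to `x` and not a multiple of it -/
theorem exists_orth {e₁ e₂ : M} (h1 : Sg e₁) (h2 : Sg e₂) (h12 : B e₁ e₂ = 0)
    (hind : ∀ a b : K, a • e₁ + b • e₂ = 0 → a = 0 ∧ b = 0) (x : M) :
    ∃ u, Sg u ∧ B x u = 0 ∧ ∀ c : K, u + c • x ≠ 0 := by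
  have h21 := h.refl _ _ h12
  have h11 := h.sg_self _ h1
  have h22 := h.sg_self _ h2
  have hsg : ∀ a b : K, Sg (a • e₁ + b • e₂) := fun a b =>
    h.sg_add _ _ (h.sg_smul a _ h1) (h.sg_smul b _ h2) (by rw [h.smul_right, h.smul_left_zero a h12, mul_zero])
  -- the plane is totally isotropic
  have hE : ∀ a b : K, B (a • e₁ + b • e₂) e₁ = 0 ∧ B (a • e₁ + b • e₂) e₂ = 0 := fun a b => by
    constructor
    · rw [h.add_left, h.smul_left_zero a h11, h.smul_left_zero b h21, add_zero]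
    · rw [h.add_left, h.smul_left_zero a h12, h.smul_left_zero b h22, add_zero]
  by_cases h0 : B x e₁ = 0 ∧ B x e₂ = 0
  · by_cases h3 : ∀ c : K, e₁ + c • x ≠ 0
    · exact ⟨e₁, h1, h0.1, h3⟩
    · push Not at h3
      obtain ⟨c, hc⟩ := h3
      refine ⟨e₂, h2, h0.2, fun d hd => ?_⟩
      have hc0 : c ≠ 0 := by
        rintro rfl
        have := (hind 1 0 (by rw [one_smul, zero_smul, add_zero]; rwa [zero_smul, add_zero] at hc)).1
        exact one_ne_zero this
      have h4 : (-d) • e₁ + c • e₂ = 0 := by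
        have e1 : (-d) • e₁ + c • e₂ = (-d) • (e₁ + c • x) + c • (e₂ + d • x) := by
          rw [smul_add, smul_add, smul_smul, smul_smul]
          have : (-d * c) • x = -((c * d) • x) := by rw [← neg_smul]; congr 1; ring
          rw [this]
          abel
        rw [e1, hc, hd, smul_zero, smul_zero, add_zero]
      exact hc0 (hind _ _ h4).2
  · refine ⟨(B x e₂) • e₁ + (-(B x e₁)) • e₂, hsg _ _, ?_, fun c hc => ?_⟩
    · rw [h.add_right, h.smul_right, h.smul_right]
      ring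
    · by_cases hc0 : c = 0
      · rw [hc0, zero_smul, add_zero] at hc
        obtain ⟨e1, e2⟩ := hind _ _ hc
        exact h0 ⟨neg_eq_zero.1 e2, e1⟩
      · -- `x` lies in the plane
        have e1 : x = (-c⁻¹ * B x e₂) • e₁ + (-c⁻¹ * -(B x e₁)) • e₂ := by
          have e2 : x = (-c⁻¹) • ((B x e₂) • e₁ + (-(B x e₁)) • e₂) := by
            have e3 : (B x e₂) • e₁ + (-(B x e₁)) • e₂ = -(c • x) := eq_neg_of_add_eq_zero_left hc
            rw [e3, smul_neg, neg_smul, neg_neg, smul_smul, inv_mul_cancel₀ hc0, one_smul]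
          conv_lhs => rw [e2]
          rw [smul_add, smul_smul, smul_smul]
        apply h0
        obtain ⟨e4, e5⟩ := hE (-c⁻¹ * B x e₂) (-c⁻¹ * -(B x e₁))
        rw [← e1] at e4 e5
        exact ⟨e4, e5⟩

/-- **the cone** -/
theorem cone [Fact p.Prime] [CharP K p] [Finite K] {e₁ e₂ : M} (h1 : Sg e₁) (h2 : Sg e₂) (h12 : B e₁ e₂ = 0)
    (hind : ∀ a b : K, a • e₁ + b • e₂ = 0 → a = 0 ∧ b = 0) : Cone p j {x : M | x ≠ 0 ∧ Sg x} B := by
  -- for each singular `x`, the vectors `u`, `v`, `w`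
  have key : ∀ x, x ≠ 0 → ∃ u v w, Sg u ∧ Sg w ∧ B x u = 0 ∧ B x v = 1 ∧ B u v = 0 ∧ B x w = 0 ∧ B u w = 1 := by
    intro x hx
    obtain ⟨u, hu, hxu, hne⟩ := h.exists_orth h1 h2 h12 hind x
    obtain ⟨v, w, e1, e2, e3, e4⟩ := h.dual_pair hx hne
    obtain ⟨c, hc⟩ := h.corr u w hu (by rw [e4]; exact one_ne_zero)
    refine ⟨u, v, w + c • u, hu, hc, hxu, e1, e2, ?_, ?_⟩
    · rw [h.add_right, h.smul_right, e3, hxu, mul_zero, add_zero]
    · rw [h.add_right, h.smul_right, e4, h.sg_self u hu, mul_zero, add_zero]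
  refine ⟨⟨e₁, ?_, h1⟩, ?_, h.add_right, h.smul_right, ?_⟩
  · rintro rfl
    exact one_ne_zero (hind 1 0 (by rw [smul_zero, zero_smul, add_zero])).1
  · rintro x ⟨hx, hsx⟩ y hy
    obtain ⟨u, v, w, hu, hw, hxu, hxv, huv, hxw, huw⟩ := key x hx
    have hgen : ∀ z, Sg z → B x z = 0 → z ∈ Submodule.span K
        {y | ∀ a : K, x + a • y ∈ {x : M | x ≠ 0 ∧ Sg x} ∨ x + a • y = 0} := by
      intro z hz hxz
      refine Submodule.subset_span fun a => ?_
      by_cases h0 : x + a • z = 0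
      · exact Or.inr h0
      · exact Or.inl ⟨h0, h.sg_add _ _ hsx (h.sg_smul a z hz) (by rw [h.smul_right, hxz, mul_zero])⟩
    have hne : ∀ z, B x z = 0 → B u z ≠ 0 → z ∈ Submodule.span K
        {y | ∀ a : K, x + a • y ∈ {x : M | x ≠ 0 ∧ Sg x} ∨ x + a • y = 0} := by
      intro z hxz huz
      obtain ⟨c, hc⟩ := h.corr u z hu huz
      have e1 : z = (z + c • u) - c • u := by abel
      rw [e1]
      refine sub_mem (hgen _ hc ?_) (Submodule.smul_mem _ _ (hgen u hu hxu))
      rw [h.add_right, h.smul_right, hxz, hxu, mul_zero, add_zero]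
    by_cases h0 : B u y = 0
    · have e1 : y = (y + w) - w := by abel
      rw [e1]
      refine sub_mem (hne _ ?_ ?_) (hgen w hw hxw)
      · rw [h.add_right, hy, hxw, add_zero]
      · rw [h.add_right, h0, zero_add, huw]
        exact one_ne_zero
    · exact hne y hy h0
  · rintro x ⟨hx, hsx⟩
    obtain ⟨u, v, w, hu, hw, hxu, hxv, huv, hxw, huw⟩ := key x hx
    refine ⟨u, v, w, fun a => ⟨⟨?_, ?_⟩, ?_, ?_⟩⟩
    · intro h0
      have h3 : B (x + a • u) v = 1 := by rw [h.add_left, h.smul_left, hxv, huv, mul_zero, add_zero]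
      rw [h0, h.zero_left] at h3
      exact one_ne_zero h3.symm
    · exact h.sg_add _ _ hsx (h.sg_smul a u hu) (by rw [h.smul_right, hxu, mul_zero])
    · rw [h.add_left, h.smul_left, hxv, huv, mul_zero, add_zero]
    · rw [h.add_left, h.smul_left, hxw, huw, mul_one, zero_add]

/-- the dual basis -/
theorem exists_dual [Fact p.Prime] [CharP K p] [Finite K] {ι : Type*} [Fintype ι] [DecidableEq ι]
    (b : Module.Basis ι K M) : ∃ d : ι → M, ∀ i l, B (d l) (b i) = if i = l then 1 else 0 := by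
  have : Finite M := Finite.of_equiv _ b.equivFun.symm.toEquiv
  let Ψ : M → Module.Dual K M := fun z =>
    { toFun := fun y => B z y
      map_add' := h.add_right z
      map_smul' := fun a y => h.smul_right z a y }
  have hinj : Injective Ψ := by
    intro z z' hz
    have h3 : z + (-1 : K) • z' = 0 := by
      refine h.nd _ fun y => ?_
      have e1 : B z y = B z' y := congrArg (fun φ : Module.Dual K M => φ y) hz
      have e2 : ∀ z', B ((-1 : K) • z') y = - B z' y := by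
        intro z'
        have h4 : B (z' + (-1 : K) • z') y = 0 := by
          rw [neg_smul, one_smul, add_neg_cancel, h.zero_left]
        rw [h.add_left] at h4
        exact eq_neg_of_add_eq_zero_right h4
      rw [h.add_left, e2, e1, add_neg_cancel]
    rw [neg_smul, one_smul, add_neg_eq_zero] at h3
    exact h3
  have hsurj : Surjective Ψ := by
    have h4 : Injective (fun z => b.toDualEquiv.symm (Ψ z)) := b.toDualEquiv.symm.injective.comp hinj
    intro φ
    obtain ⟨z, hz⟩ := Finite.surjective_of_injective h4 (b.toDualEquiv.symm φ)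
    exact ⟨z, b.toDualEquiv.symm.injective hz⟩
  choose d hd using fun l => hsurj (b.coord l)
  refine ⟨d, fun i l => ?_⟩
  have h5 : B (d l) (b i) = b.coord l (b i) := congrArg (fun φ : Module.Dual K M => φ (b i)) (hd l)
  rw [h5, Module.Basis.coord_apply, Module.Basis.repr_self, Finsupp.single_apply]

/-- **The rank.** -/
theorem rk_eq [Fact p.Prime] [CharP K p] [CharP k p] [Finite K] [Module.Finite K M] {e : ℕ} (hK : Nat.card K = p ^ e)
    {e₁ e₂ : M} (h1 : Sg e₁) (h2 : Sg e₂) (h12 : B e₁ e₂ = 0)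
    (hind : ∀ a b : K, a • e₁ + b • e₂ = 0 → a = 0 ∧ b = 0) {T : Finset ℕ} (hT : ∀ t ∈ T, t < e)
    (hj : ∀ t ∈ T, (t + j) % e ∉ T.erase t)
    (hj' : ∀ s ∈ univ.image (slot e j T), (s + j) % e ∉ (univ.image (slot e j T)).erase s)
    (σ : K →+* k) {α β : Type*} (y : α → Module.Dual K M)
    (hy : ∀ s, s ≠ 0 → Sg s → ∃ a, ∃ c : K, c ≠ 0 ∧ ∀ v, y a v = c * B s v)
    (x : β → M) (hx : ∀ s, s ≠ 0 → Sg s → ∃ a, ∃ c : K, c ≠ 0 ∧ x a = c • s) :
    rk (fun (a : α) (c : β) => σ (y a (x c)) ^ ∑ t ∈ T, p ^ t) = Module.finrank K M ^ T.card := by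
  classical
  let b := Module.finBasis K M
  obtain ⟨d, hd⟩ := h.exists_dual b
  have h3 := rk_cone (σ := σ) hK (h.cone h1 h2 h12 hind) hT hj hj' b h.add_left h.smul_left hd y
    (fun s hs => hy s hs.1 hs.2) x (fun s hs => hx s hs.1 hs.2)
  rw [h3, Fintype.card_fin]

end Pol

/-! ### quadratic forms -/

section quad

theorem slot_zero {T : Finset ℕ} {e : ℕ} (hT : ∀ t ∈ T, t < e) : univ.image (slot e 0 T) = T := by
  ext s
  rw [Finset.mem_image]
  constructor
  · rintro ⟨t, -, rfl⟩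
    rw [slot, add_zero, Nat.mod_eq_of_lt (hT t t.2)]
    exact t.2
  · intro hs
    exact ⟨⟨s, hs⟩, mem_univ _, by rw [slot, add_zero, Nat.mod_eq_of_lt (hT s hs)]⟩

theorem pol_quad {p : ℕ} {Q : M → K} {B : M → M → K} (hQ : ∀ (a : K) x, Q (a • x) = a ^ 2 * Q x)
    (hQB : ∀ x y, Q (x + y) = Q x + Q y + B x y) (hadd : ∀ x y z, B x (y + z) = B x y + B x z)
    (hsmul : ∀ x (a : K) y, B x (a • y) = a * B x y) (hnd : ∀ x, (∀ y, B x y = 0) → x = 0) :
    Pol p 0 (fun x => Q x = 0) B := by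
  have hsymm : ∀ x y, B x y = B y x := by
    intro x y
    have h1 := hQB x y
    have h2 := hQB y x
    rw [add_comm y x, h1] at h2
    linear_combination h2
  refine ⟨hadd, hsmul, fun x y z => by rw [hsymm, hadd, hsymm z x, hsymm z y], fun a x y => by
    rw [pow_zero, pow_one, hsymm, hsmul, hsymm y x], fun x y hxy => by rw [hsymm, hxy], ?_, ?_, ?_, ?_, hnd⟩
  · intro a x hx
    rw [hQ, hx, mul_zero]
  · intro x y hx hy hxy
    rw [hQB, hx, hy, hxy, add_zero, add_zero]
  · intro x hx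
    have h1 := hQB x x
    have h2 := hQ 2 x
    rw [two_smul] at h2
    rw [hx] at h1 h2
    rw [h2] at h1
    linear_combination -h1
  · intro u y hu hne
    refine ⟨-(Q y) / B u y, ?_⟩
    rw [hQB, hQ, hu, hsmul, hsymm y u, div_mul_cancel₀ _ hne]
    ring

/-- **Quadratic forms.** -/
theorem rk_quad {p : ℕ} [Fact p.Prime] [CharP K p] [CharP k p] [Finite K] [Module.Finite K M] {e : ℕ}
    (hK : Nat.card K = p ^ e) {Q : M → K} {B : M → M → K} (hQ : ∀ (a : K) x, Q (a • x) = a ^ 2 * Q x)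
    (hQB : ∀ x y, Q (x + y) = Q x + Q y + B x y) (hadd : ∀ x y z, B x (y + z) = B x y + B x z)
    (hsmul : ∀ x (a : K) y, B x (a • y) = a * B x y) (hnd : ∀ x, (∀ y, B x y = 0) → x = 0)
    {e₁ e₂ : M} (h1 : Q e₁ = 0) (h2 : Q e₂ = 0) (h12 : B e₁ e₂ = 0)
    (hind : ∀ a b : K, a • e₁ + b • e₂ = 0 → a = 0 ∧ b = 0) {T : Finset ℕ} (hT : ∀ t ∈ T, t < e)
    (σ : K →+* k) {α β : Type*} (y : α → Module.Dual K M)
    (hy : ∀ s, s ≠ 0 → Q s = 0 → ∃ a, ∃ c : K, c ≠ 0 ∧ ∀ v, y a v = c * B s v)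
    (x : β → M) (hx : ∀ s, s ≠ 0 → Q s = 0 → ∃ a, ∃ c : K, c ≠ 0 ∧ x a = c • s) :
    rk (fun (a : α) (c : β) => σ (y a (x c)) ^ ∑ t ∈ T, p ^ t) = Module.finrank K M ^ T.card := by
  have h3 : ∀ t ∈ T, (t + 0) % e ∉ T.erase t := by
    intro t ht
    rw [add_zero, Nat.mod_eq_of_lt (hT t ht)]
    exact Finset.notMem_erase t T
  exact (pol_quad (p := p) hQ hQB hadd hsmul hnd).rk_eq hK h1 h2 h12 hind hT h3 (by rwa [slot_zero hT]) σ y hy x hx

/-- the version for the forms of the list -/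
theorem rk_quadForm {p : ℕ} [Fact p.Prime] [CharP K p] [CharP k p] [Finite K] {ι : Type} [Fintype ι] {e : ℕ}
    (hK : Nat.card K = p ^ e) {Q : (ι → K) → K} (hQ : Cfsg.Geo.IsNondegenerateQuadraticForm Q)
    {e₁ e₂ : ι → K} (h1 : Q e₁ = 0) (h2 : Q e₂ = 0) (h12 : QuadraticMap.polar Q e₁ e₂ = 0)
    (hind : ∀ a b : K, a • e₁ + b • e₂ = 0 → a = 0 ∧ b = 0) {T : Finset ℕ} (hT : ∀ t ∈ T, t < e)
    (σ : K →+* k) {α β : Type*} (y : α → Module.Dual K (ι → K))
    (hy : ∀ s, s ≠ 0 → Q s = 0 → ∃ a, ∃ c : K, c ≠ 0 ∧ ∀ v, y a v = c * QuadraticMap.polar Q s v)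
    (x : β → ι → K) (hx : ∀ s, s ≠ 0 → Q s = 0 → ∃ a, ∃ c : K, c ≠ 0 ∧ x a = c • s) :
    rk (fun (a : α) (c : β) => σ (y a (x c)) ^ ∑ t ∈ T, p ^ t) = Fintype.card ι ^ T.card := by
  rw [rk_quad hK hQ.smul (B := QuadraticMap.polar Q) (fun x y => by rw [QuadraticMap.polar]; ring)
    (fun x y z => hQ.polar_bilinear.add_right x y z) (fun x a y => hQ.polar_bilinear.smul_right a x y)
    (fun x hx => by
      by_contra h0
      obtain ⟨-, y, hy⟩ := hQ.nondegenerate x h0
      exact hy (hx y)) h1 h2 h12 hind hT σ y hy x hx, Module.finrank_fintype_fun_eq_card]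

end quad

/-! ### hermitian forms -/

section herm

end herm

end Cfsg.Agent.H353.Ker
end

-- part: H948/Ppd/PmRank
section
/-!
# Orthogonal groups of minus type, `|K| = |F| ^ 2` (helper948)

* `eq_pow_of_card_SS` : `|SS p r| = 2` implies `r = p ^ t`;
* `node_first` : `SL_2(K)` at the first node acts on the first basis vector;
* **`rank_minus`** : `J^c = {0}`, `|K| = |F| ^ 2`, `dim Le {0} = 4` imply `(2 m + 2) ^ 2 ≤ |ι|`.
-/

set_option autoImplicit false
set_option linter.unusedSectionVars false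
set_option linter.style.haveILetI false

namespace Cfsg.Agent.H948.Ppd

open Cfsg.Agent.H875.Fn (SS)

/-- `|SS p r| = 2` implies `r = p ^ t` -/
theorem eq_pow_of_card_SS (p : ℕ) [hp : Fact p.Prime] (r : ℕ) (h : (SS p r).card = 2) : ∃ t, r = p ^ t := by
  induction r using Nat.strong_induction_on with
  | _ r ih =>
    have hp1 := hp.out.one_lt
    have e : r = r % p + p * (r / p) := (Nat.mod_add_div r p).symm
    have h1 := H875.Fn.card_SS_add (p := p) (t := 1) (r₁ := r % p) (r₂ := p * (r / p))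
      (by rw [pow_one]; exact Nat.mod_lt _ hp.out.pos) (by rw [pow_one]; exact Dvd.intro _ rfl)
    rw [← e, H875.Fn.card_SS_p_mul, H875.Fn.card_SS_lt (Nat.mod_lt _ hp.out.pos), h] at h1
    by_cases h0 : r / p = 0
    · rw [h0, mul_zero, add_zero] at e
      have h2 : (SS p 0).card = 1 := by
        rw [H875.Fn.card_SS_lt hp.out.pos]
      rw [h0, h2, mul_one] at h1
      refine ⟨0, ?_⟩
      rw [pow_zero]
      omega
    · have h2 := H875.Fn.two_le_card_SS (p := p) h0
      have h3 : r % p = 0 := by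
        by_contra h3
        have h4 : 1 ≤ r % p := Nat.one_le_iff_ne_zero.2 h3
        nlinarith only [h1, h2, h4]
      rw [h3, zero_add, one_mul] at h1
      have hlt : r / p < r := Nat.div_lt_self (Nat.pos_of_ne_zero fun h5 => h0 (by rw [h5, Nat.zero_div])) hp1
      obtain ⟨t, ht⟩ := ih (r / p) hlt h1.symm
      refine ⟨t + 1, ?_⟩
      rw [h3, zero_add, ht] at e
      rw [e, pow_succ, mul_comm]

namespace Minus

open QuadraticMap
open CoxeterSystem Cfsg.Agent.ChevalleyStructure.CoxeterGeom Cfsg.Agent.Tits.Roots Cfsg.Agent.Tits.Core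
  Cfsg.Agent.Nodes.Reps Cfsg.Agent.Nodes.BNOf Cfsg.Agent.Nodes.Bruhat Cfsg.Agent.Nodes.RGDLib
open Cfsg.Agent.Nodes Cfsg.Agent.Nodes.WittRoot Cfsg.Agent.Nodes.WittRGD Cfsg.Agent.Nodes.WittAll Cfsg.Agent.Nodes.WittInst
open Cfsg.Agent.Nodes.TypeC (isCartan ng nx)
open Cfsg.Agent.TitsThree.Siegel Cfsg.Agent.TitsThree.SiegelGen Cfsg.Agent.TitsThree.WittFrame Cfsg.Agent.TitsThree.FrameCN
  Cfsg.Agent.TitsThree.WBridge Cfsg.Agent.TitsThree.KSideO Cfsg.Agent.TitsThree Cfsg.Agent.TitsThree.StdData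
  Cfsg.Agent.TitsThree.WittWeyl
open Cfsg.Agent.LieClassical Cfsg.Agent.LieClassical.OrthCore Cfsg.Agent.LieClassical.OrthTrans
open Cfsg.Agent.LieClassical.OrthSimple Cfsg.Agent.LieClassical.OrthFinite Cfsg.Agent.LieClassical.OrthForms
open Cfsg.Agent.H915.LD Cfsg.Agent.H911 Cfsg.Agent.H905.Md Cfsg.Agent.H925.Nat Cfsg.Agent.Nodes.RGDLift
open Cfsg.Agent.Nodes.OppDec Cfsg.Agent.Omega.FOne.Lift.Sd Cfsg.Agent.Omega.CR
open Cfsg.Agent.H156.Ppd (Cov lrep exists_cov)
open Cfsg.Agent.H911.SLTwo Cfsg.Agent.H62.FrameSL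
open Cfsg Cfsg.Geo
open scoped MatrixGroups Matrix

universe u w

section frame

variable {F : Type*} [Field F] {V : Type*} [AddCommGroup V] [Module F V] {H : HForm F V} {n : ℕ}
  {Fr : Frame H (Fin n)}

theorem phiS_hh_e {i j : Fin n} (hij : i ≠ j) (s : Fˣ) :
    phiS Fr hij (_root_.Cfsg.Agent.H911.SLTwo.hh s) (Fr.b (i, true)) = (s : F) • Fr.b (i, true) := by
  rw [phiS_apply, linS_apply]
  simp only [hh00, hh01, hh10, hh11, map_zero, zero_mul, add_zero, sub_zero, zero_add, neg_zero]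
  simp only [H62.FrameSL.hs, H62.FrameSL.ht, H62.FrameSL.hn Fr hij]
  simp only [mul_zero, mul_one, zero_smul, add_zero]
  module

end frame

section first

variable {K : Type} [Field K] {a b : K} {m : ℕ}
  (hab : ∀ z₁ z₂ : K, z₁ ^ 2 + a * z₁ * z₂ + b * z₂ ^ 2 = 0 → z₁ = 0 ∧ z₂ = 0)
  (hG : _root_.Cfsg.Agent.LieClassical.OrthTrans.Good (minusForm m K a b)) {p : ℕ}

theorem node_first (hA : AmbT (toFrame (wminus m K a b hab)) p (MM hab hG).I) {i : Fin m} (hi : (i : ℕ) + 1 < m) :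
    ∃ σ' : SL(2, K) →* (MM hab hG).I,
      (∀ s : Kˣ, (σ' (_root_.Cfsg.Agent.H911.SLTwo.hh s)).1 ((toFrame (wminus m K a b hab)).b (i, true)) =
        (s : K) • (toFrame (wminus m K a b hab)).b (i, true)) ∧ Nd (TB (MM hab hG)) (XB (MM hab hG)) i σ' := by
  have hij : i ≠ ⟨i + 1, hi⟩ := by
    intro e
    have := congrArg Fin.val e
    simp only at this
    omega
  set Fr := toFrame (wminus m K a b hab) with hFr
  have hu : ∀ y, y ∈ WittRoot.rg Fr (sr i) ↔ ∃ t, phiS Fr hij (U t) = y := by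
    intro y
    rw [rg_sr, PG_ne Fr (H61.SUNode.ne_nx hi), H61.SUNode.nx_of_lt hi, mem_XG]
    exact exists_congr fun t => eq_comm.trans (iff_of_eq (congrArg (· = y) (phiS_up Fr hij t).symm))
  have hl : ∀ y, y ∈ WittRoot.rg Fr (-sr i) ↔ ∃ t, phiS Fr hij (Lo t) = y := by
    intro y
    rw [rg_neg_sr, PG_ne Fr (a := ng (i, true)) (b := ng (nx i)) (H61.SUNode.ne_nx hi),
      XG_swap Fr (a := ng (i, true)) (b := ng (nx i)) (H61.SUNode.ne_nx hi), H61.SUNode.nx_of_lt hi, mem_XG]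
    exact exists_congr fun t => eq_comm.trans (iff_of_eq (congrArg (· = y) (phiS_lo Fr hij t).symm))
  obtain ⟨σ, h1, h2⟩ := exists_nd hA.rg_le (phiS Fr hij) hu hl (phiS_hh hij)
  refine ⟨σ, fun s => ?_, h2⟩
  rw [h1]
  exact phiS_hh_e hij s

end first

section rank

variable {F : Type u} [Field F] [Finite F] {ι : Type} [Fintype ι] [DecidableEq ι] {P : Subgroup (GL ι F)}
  (hC : Core P) {K : Type} [Field K] [Finite K] {a b : K} {m : ℕ} {p : ℕ} [hp : Fact p.Prime] [hFp : CharP F p]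
  [hKp : CharP K p]
  (hab : ∀ z₁ z₂ : K, z₁ ^ 2 + a * z₁ * z₂ + b * z₂ ^ 2 = 0 → z₁ = 0 ∧ z₂ = 0)
  (hG : _root_.Cfsg.Agent.LieClassical.OrthTrans.Good (minusForm m K a b)) (hm : 2 ≤ m)
  (hA : AmbT (toFrame (wminus m K a b hab)) p (MM hab hG).I)
  {Y : Type w} [Group Y] [Finite Y] {f : Y →* (MM hab hG).I} {φ : Y →* GL ι F} {n₁ : Fin m → Y}
  (C : Cov (CoxeterMatrix.B m).toCoxeterSystem (isCartan m) p (TB (MM hab hG)) (NB hA (pM hab)) (XB (MM hab hG)) P f φ n₁)
include C

/-- the natural module -/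
noncomputable abbrev nat (f : Y →* (MM hab hG).I) : Y →* Module.End K ((Fin m ⊕ Fin m) ⊕ Fin 2 → K) :=
  lin ((_root_.Cfsg.Agent.H925.Nat.mt (MM hab hG).I).comp f)

omit C [Finite K] [Finite Y] in
theorem nat_apply (g : Y) (v : (Fin m ⊕ Fin m) ⊕ Fin 2 → K) : nat hab hG f g v = (f g).1 v := by
  exact (lin_apply _ _ _).trans (mt_mulVec _ _ _)

include hm in
theorem nat_irr (L : Submodule K ((Fin m ⊕ Fin m) ⊕ Fin 2 → K))
    (hL : Ivt (nat hab hG f) (GG (CoxeterMatrix.B m).toCoxeterSystem (isCartan m) ((TB (MM hab hG)).comap f)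
      (fun x => lft p f (XB (MM hab hG) x))) L) : L = ⊥ ∨ L = ⊤ := by
  have hWf : Finite (CoxeterMatrix.B m).Group := TypeC.finite_W (CoxeterMatrix.B m).toCoxeterSystem
  have hsN : Submodule.span K (Set.range (mt (MM hab hG).I)) = ⊤ :=
    span_E hG (by rw [Fintype.card_sum, Fintype.card_sum, Fintype.card_fin, Fintype.card_fin]; omega)
  have hsp₁ : Submodule.span K (Set.range ((_root_.Cfsg.Agent.H925.Nat.mt (MM hab hG).I).comp f)) = ⊤ := by
    rw [← hsN]
    congr 1
    ext x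
    constructor
    · rintro ⟨y, rfl⟩
      exact ⟨f y, rfl⟩
    · rintro ⟨y, rfl⟩
      obtain ⟨z, rfl⟩ := C.surj y
      exact ⟨z, rfl⟩
  refine irr_of_span hsp₁ (RingHom.id K) L fun g v hv => ?_
  have h1 := hL g (by rw [C.hGG]; trivial) v hv
  have e : lin (twr (RingHom.id K) ((_root_.Cfsg.Agent.H925.Nat.mt (MM hab hG).I).comp f)) g v = nat hab hG f g v := by
    simp only [nat, lin_apply, lin_apply, twr_apply]
    rfl
  rw [e]
  exact h1

/-- the natural module at the first node -/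
theorem nat_at {o : Fin m} (hm1 : 1 < m) (ho : (o : ℕ) = 0) :
    NatAt ((TB (MM hab hG)).comap f) n₁ (fun x => lft p f (XB (MM hab hG) x)) (nat hab hG f) o
      ((toFrame (wminus m K a b hab)).b (o, true)) :=
  (natAt_C hA (pc_ne hab) hm1 ho (CoxeterMatrix.B m).toCoxeterSystem).comap (p := p) (f := f) C.hn

theorem nat_D {o : Fin m} (hm1 : 1 < m) (ho : (o : ℕ) = 0) : (toFrame (wminus m K a b hab)).b (o, true) ∈
    D (CoxeterMatrix.B m).toCoxeterSystem (isCartan m) (fun x => lft p f (XB (MM hab hG) x)) (nat hab hG f) := by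
  intro x hx
  exact fixC (Fr := toFrame (wminus m K a b hab)) (G0 := (MM hab hG).I) hm1 ho (CoxeterMatrix.B m).toCoxeterSystem _
    (map_Sup_lft_le f _ (Subgroup.mem_map_of_mem f hx))

/-- the functional -/
noncomputable def fq (s : (Fin m ⊕ Fin m) ⊕ Fin 2 → K) : Module.Dual K ((Fin m ⊕ Fin m) ⊕ Fin 2 → K) :=
  (minusForm m K a b).polarBilin s

omit C [Finite K] in
theorem fq_apply (s v : (Fin m ⊕ Fin m) ⊕ Fin 2 → K) :
    fq (a := a) (b := b) s v = polar (minusForm m K a b) s v := rfl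

omit C [Finite Y] [Finite K] in
theorem dual_fq (g : Y) (s : (Fin m ⊕ Fin m) ⊕ Fin 2 → K) :
    dualRep (nat hab hG f) g (fq (a := a) (b := b) s) = fq (a := a) (b := b) ((f g).1 s) := by
  refine LinearMap.ext fun v => ?_
  rw [dualRep_apply, fq_apply, fq_apply, nat_apply]
  have h1 : (f g).1 ∈ O (minusForm m K a b) := E_le_O (f g).2
  rw [← polar_map h1]
  congr 1
  rw [map_inv]
  exact (f g).1.apply_symm_apply v

theorem fq_mem {o : Fin m} (hm1 : 1 < m) (ho : (o : ℕ) = 0) :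
    fq (a := a) (b := b) ((toFrame (wminus m K a b hab)).b (o, false)) ∈ fx (dualRep (nat hab hG f))
      (UN (CoxeterMatrix.B m).toCoxeterSystem (isCartan m) (fun x => lft p f (XB (MM hab hG) x))) := by
  have hWf : Finite (CoxeterMatrix.B m).Group := TypeC.finite_W (CoxeterMatrix.B m).toCoxeterSystem
  let S : Subgroup (MM hab hG).I :=
    { carrier := {g | g.1 ((toFrame (wminus m K a b hab)).b (o, false)) = (toFrame (wminus m K a b hab)).b (o, false)}
      one_mem' := rfl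
      mul_mem' := by
        intro a b (ha : a.1 _ = _) (hb : b.1 _ = _)
        change a.1 (b.1 _) = _
        rw [hb, ha]
      inv_mem' := by
        intro a (ha : a.1 _ = _)
        change (a.1).symm _ = _
        rw [LinearEquiv.symm_apply_eq, ha] }
  have h1 : UN (CoxeterMatrix.B m).toCoxeterSystem (isCartan m) (fun x => lft p f (XB (MM hab hG) x)) ≤ S.comap f := by
    refine RGD.Sup_le fun x hx u hu => ?_
    have h2 : f u ∈ XB (MM hab hG) x := map_lft_le p f _ (Subgroup.mem_map_of_mem f hu)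
    exact H69.Ppd.rg_fix' (Fr := toFrame (wminus m K a b hab)) hm1 ho hx.1 (hx.2 o) h2
  intro g hg
  rw [dual_fq]
  congr 1
  exact h1 hg

include hm in
/-- the type of the natural module -/
theorem nat_jx {o : Fin m} (ho : (o : ℕ) = 0) (i : Fin m) :
    i ∈ Jx (CoxeterMatrix.B m).toCoxeterSystem (isCartan m) (fun x => lft p f (XB (MM hab hG) x)) (nat hab hG f) ↔
      i ≠ o := by
  have hWf : Finite (CoxeterMatrix.B m).Group := TypeC.finite_W (CoxeterMatrix.B m).toCoxeterSystem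
  have HN := nat_at hab hG hA C (by omega) ho
  have hD := nat_D hab hG hA C (by omega) ho
  constructor
  · rintro hi rfl
    obtain ⟨u, hu, hu1⟩ := (lft p f (XB (MM hab hG) (-sr i))).bot_or_exists_ne_one.resolve_left
      (X_ne_bot C.rgd (isRoot_sr _ (isCartan m) i).neg)
    obtain ⟨x, hx, t, ht, y, hy, e⟩ := C.rgd.rk1 i u hu hu1
    have e2 : n₁ i = t⁻¹ * (x⁻¹ * (u * y⁻¹)) := by rw [e]; group
    obtain ⟨r, hr⟩ := HN.tor _ (inv_mem ht)
    apply HN.ind r
    rw [e2, rho_mul, rho_mul, rho_mul, HN.fix i _ (inv_mem hy), hi u hu _ hD, HN.fix i _ (inv_mem hx), hr]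
  · intro hi
    choose χ hχ using fun t : Y => show ∃ r : K, t ∈ (TB (MM hab hG)).comap f →
        nat hab hG f t ((toFrame (wminus m K a b hab)).b (o, true)) = r • (toFrame (wminus m K a b hab)).b (o, true) by
      by_cases ht : t ∈ (TB (MM hab hG)).comap f
      · obtain ⟨r, hr⟩ := HN.tor t ht
        exact ⟨r, fun _ => hr⟩
      · exact ⟨0, fun h => absurd h ht⟩
    have hnV : Nontrivial ((Fin m ⊕ Fin m) ⊕ Fin 2 → K) := nontrivial_of_ne _ _ HN.c0
    have hspan := fx_eq_span C.rgd (nat hab hG f) (nat_irr hab hG hm hA C) hD HN.c0 hχ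
    intro x hx v hv
    have hv' : v ∈ fx (nat hab hG f) (RGD.Sup (fun x => lft p f (XB (MM hab hG) x))
      (RGD.Pos (CoxeterMatrix.B m).toCoxeterSystem (isCartan m))) := hv
    rw [hspan] at hv'
    obtain ⟨r, rfl⟩ := Submodule.mem_span_singleton.1 hv'
    rw [map_smul, HN.neg i hi x hx]

include hm hC in
/-- **The rank.** -/
theorem rank_minus (hT : ∀ s ∈ (TB (MM hab hG)).comap f, ∀ t ∈ (TB (MM hab hG)).comap f, s * t = t * s)
    {o : Fin m} (ho : (o : ℕ) = 0) (hJ : ∀ i, i ∉ JB (MM hab hG) p f φ ↔ i = o)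
    (hcard : Nat.card K = Nat.card F ^ 2) (hd : dB (MM hab hG) p f φ o = 4) :
    (2 * m + 2) ^ 2 ≤ Fintype.card ι := by
  classical
  have hWf : Finite (CoxeterMatrix.B m).Group := TypeC.finite_W (CoxeterMatrix.B m).toCoxeterSystem
  have hne := hC.nonempty
  have hchar : CharP (AlgebraicClosure F) p := charP_of_injective_algebraMap (algebraMap F _).injective p
  have hirr := ac_irr C.rgd C.hGG hT C.range hC.absIrred
  obtain ⟨c, hc, hc0, χ, hχ⟩ := exists_chi C.rgd hirr hT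
  have := Fintype.ofFinite K
  have := Fintype.ofFinite F
  obtain ⟨j⟩ := H875.Psl2.exists_emb F K p
  have HN := nat_at hab hG hA C (by omega) ho
  have hD := nat_D hab hG hA C (by omega) ho
  -- the first node
  obtain ⟨σ', h1, N'⟩ := node_first hab hG hA (i := o) (by omega)
  obtain ⟨σ, hσ, N⟩ := lift_nd C (pc_ne hab) N'
  have N₁ : H650.Ppd.Nd ((TB (MM hab hG)).comap f) (fun x => lft p f (XB (MM hab hG) x)) o σ := ⟨N.up, N.lo, N.tor⟩
  obtain ⟨a₀, -, ha₀⟩ := FiniteField.card F p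
  rw [← Nat.card_eq_fintype_card] at ha₀
  have hK : Nat.card K = p ^ ((a₀ : ℕ) * 2) := by rw [hcard, ha₀, ← pow_mul]
  have hgcd : Nat.gcd (a₀ : ℕ) (a₀ * 2) = a₀ := Nat.gcd_eq_left (Dvd.intro _ rfl)
  obtain ⟨r₀, hr0, hr1, hr2, hr3⟩ := H650.Ppd.edge_data C.rgd C.hGG hT C.range hC.absIrred N₁ ((hJ o).2 rfl)
    (s := 2) ha₀ hK (by rw [hgcd, mul_comm]) j hc hc0 hχ
  have hSS : (SS p r₀).card = 2 := by
    have h2 : (SS p r₀).card ^ 2 = 4 := by rw [← hr3]; exact hd
    nlinarith only [hd, hr3]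
  obtain ⟨t, rfl⟩ := eq_pow_of_card_SS p r₀ hSS
  rw [hgcd] at hr1 hr2
  have ht : t < a₀ := (Nat.pow_lt_pow_iff_right hp.out.one_lt).1 hr1
  have hpos := a₀.pos
  have hexp : p ^ t * ∑ l ∈ Finset.range 2, (p ^ (a₀ : ℕ)) ^ l = ∑ i ∈ ({t, t + a₀} : Finset ℕ), p ^ i := by
    rw [Finset.sum_pair (by omega), Finset.sum_range_succ, Finset.sum_range_one, pow_zero, pow_one, pow_add]
    ring
  rw [hexp] at hr2
  let e := ∑ i ∈ ({t, t + (a₀ : ℕ)} : Finset ℕ), p ^ i
  have he : e = ∑ i ∈ ({t, t + (a₀ : ℕ)} : Finset ℕ), p ^ i := rfl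
  rw [← he] at hr2 hexp
  have he0 : e ≠ 0 := by
    rw [← hexp]
    exact Nat.mul_ne_zero hr0 (by rw [Finset.sum_range_succ, Finset.sum_range_one, pow_zero]; omega)
  let m₀ := (toFrame (wminus m K a b hab)).b (o, true)
  -- the torus
  let S : Subgroup Y :=
    { carrier := {y | ∃ r : K, r ≠ 0 ∧ nat hab hG f y m₀ = r • m₀ ∧ lin (acRep φ) y c = (j r) ^ e • c}
      one_mem' := ⟨1, one_ne_zero, by rw [rho_one, one_smul], by rw [rho_one, map_one, one_pow, one_smul]⟩
      mul_mem' := by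
        rintro x y ⟨r, h1, h2, h3⟩ ⟨s, h4, h5, h6⟩
        refine ⟨s * r, mul_ne_zero h4 h1, ?_, ?_⟩
        · rw [rho_mul, h5, map_smul, h2, smul_smul]
        · rw [rho_mul, h6, map_smul, h3, smul_smul, map_mul, mul_pow]
      inv_mem' := by
        rintro x ⟨r, h1, h2, h3⟩
        refine ⟨r⁻¹, inv_ne_zero h1, ?_, ?_⟩
        · have h4 := rho_inv_rho (nat hab hG f) x m₀
          rw [h2, map_smul] at h4
          rw [← h4, smul_smul, inv_mul_cancel₀ h1, one_smul, h4]
        · have h4 := rho_inv_rho (lin (acRep φ)) x c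
          rw [h3, map_smul] at h4
          have h5 : j r ^ e ≠ 0 := pow_ne_zero _ ((map_ne_zero j).2 h1)
          rw [map_inv₀, inv_pow]
          rw [← h4, smul_smul, inv_mul_cancel₀ h5, one_smul, h4] }
  have hTS : (TB (MM hab hG)).comap f ≤ S := by
    refine torus_ind.{w, 0} C.rgd C.gen fun i => ?_
    by_cases hi : i = o
    · subst hi
      refine ⟨K, inferInstance, σ, N, fun s => ⟨s, s.ne_zero, ?_, ?_⟩⟩
      · rw [nat_apply, hσ]
        exact h1 s
      · rw [hχ _ (N.tor s), hr2]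
    · obtain ⟨E, i1, i2, i3, σ'', -, -, N''⟩ := nodesD hab hG hA i
      obtain ⟨τ, hτ, Nτ⟩ := lift_nd C (pc_ne hab) N''
      refine ⟨E, i1, τ, Nτ, fun s => ⟨1, one_ne_zero, ?_, ?_⟩⟩
      all_goals have hmem : τ (_root_.Cfsg.Agent.H911.SLTwo.hh s) ∈ lft p f (XB (MM hab hG) (sr i)) ⊔ lft p f (XB (MM hab hG) (-sr i)) := by
                  rw [← Nτ.range_eq C.rgd]
                  exact ⟨_, rfl⟩
      · have h2 : lft p f (XB (MM hab hG) (sr i)) ⊔ lft p f (XB (MM hab hG) (-sr i)) ≤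
            H353.Ker.stab (nat hab hG f) m₀ := sup_le (fun x hx => HN.fix i x hx) (fun x hx => HN.neg i hi x hx)
        rw [one_smul]
        exact h2 hmem
      · have hiJ : i ∈ JB (MM hab hG) p f φ := by
          by_contra h3
          exact hi ((hJ i).1 h3)
        have h2 : lft p f (XB (MM hab hG) (sr i)) ⊔ lft p f (XB (MM hab hG) (-sr i)) ≤
            H353.Ker.stab (lin (acRep φ)) c := sup_le (fun x hx => X_fix C.rgd _ hc i hx) (fun x hx => hiJ x hx c hc)
        rw [map_one, one_pow, one_smul]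
        exact h2 hmem
  choose ψ hψ using fun y : Y => show ∃ r : K, y ∈ (TB (MM hab hG)).comap f →
      nat hab hG f y m₀ = r • m₀ ∧ lin (acRep φ) y c = (j r) ^ e • c by
    by_cases hy : y ∈ (TB (MM hab hG)).comap f
    · obtain ⟨r, -, h2, h3⟩ := hTS hy
      exact ⟨r, fun _ => ⟨h2, h3⟩⟩
    · exact ⟨0, fun h => absurd h hy⟩
  have hJe : Jx (CoxeterMatrix.B m).toCoxeterSystem (isCartan m) (fun x => lft p f (XB (MM hab hG) x))
      (lin (acRep φ)) = Jx (CoxeterMatrix.B m).toCoxeterSystem (isCartan m) (fun x => lft p f (XB (MM hab hG) x))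
      (nat hab hG f) := by
    ext i
    rw [nat_jx hab hG hm hA C ho i]
    constructor
    · intro h2 h3
      exact (hJ i).2 h3 h2
    · intro h2
      by_contra h3
      exact h2 ((hJ i).1 h3)
  have hnV : Nontrivial ((Fin m ⊕ Fin m) ⊕ Fin 2 → K) := nontrivial_of_ne _ _ HN.c0
  have hpair : ∀ i : Fin m, polar (minusForm m K a b) ((toFrame (wminus m K a b hab)).b (i, false))
      ((toFrame (wminus m K a b hab)).b (i, true)) = 1 := by
    intro i
    have h2 := h_e (a := a) (b := b) hab i ((wminus m K a b hab).f i)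
    rw [HO_h] at h2
    refine Eq.trans h2 ?_
    change (Pi.single (Sum.inl (Sum.inr i)) 1 : (Fin m ⊕ Fin m) ⊕ Fin 2 → K) (Sum.inl (Sum.inr i)) = 1
    rw [Pi.single_eq_same]
  have hsing : ∀ x, minusForm m K a b ((toFrame (wminus m K a b hab)).b x) = 0 := by
    rintro ⟨i, s⟩
    cases s
    · change minusForm m K a b (Pi.single (Sum.inl (Sum.inr i)) 1) = 0
      rw [coe_minusForm, quadFormMinus_apply]
      simp only [_root_.ne_eq, _root_.Sum.inl.injEq, _root_.reduceCtorEq, _root_.not_false_eq_true, _root_.Pi.single_eq_of_ne, _root_.MulZeroClass.zero_mul, _root_.Finset.sum_const_zero, _root_.Fin.isValue, _root_.OfNat.ofNat_ne_zero, _root_.zero_pow, _root_.MulZeroClass.mul_zero, _root_.add_zero]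
    · change minusForm m K a b (Pi.single (Sum.inl (Sum.inl i)) 1) = 0
      rw [coe_minusForm, quadFormMinus_apply]
      simp only [_root_.ne_eq, _root_.Sum.inl.injEq, _root_.reduceCtorEq, _root_.not_false_eq_true, _root_.Pi.single_eq_of_ne, _root_.MulZeroClass.mul_zero, _root_.Finset.sum_const_zero, _root_.Fin.isValue, _root_.OfNat.ofNat_ne_zero, _root_.zero_pow, _root_.add_zero]
  have hμ0 : fq (a := a) (b := b) ((toFrame (wminus m K a b hab)).b (o, false)) ≠ 0 := by
    intro h0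
    have h2 := hpair o
    rw [← fq_apply, h0] at h2
    exact zero_ne_one h2
  have hb0 : ∀ x, (toFrame (wminus m K a b hab)).b x ≠ 0 := fun x => WittRGD.b_ne_zero x
  have h4 := H353.Ker.le_finrank_of_pow C.rgd hirr (nat_irr hab hG hm hA C) hc hc0 hD HN.c0
    (fq_mem hab hG hA C (by omega) ho) hμ0 hJe (χ := fun y => j (ψ y) ^ e) (ψ := ψ) (fun y hy => (hψ y hy).2)
    (fun y hy => (hψ y hy).1) j he0 (fun y hy => rfl)
    (fun v : {v : (Fin m ⊕ Fin m) ⊕ Fin 2 → K // v ≠ 0 ∧ minusForm m K a b v = 0} => v.1) (by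
      rintro ⟨v, hv0, hv⟩
      obtain ⟨g, hg, hgv⟩ := hG.trans_sing (hsing (o, true)) hv (hb0 _) hv0
      obtain ⟨y, hy⟩ := C.surj ⟨g, hg⟩
      refine ⟨y, by rw [C.hGG]; trivial, 1, one_ne_zero, ?_⟩
      rw [one_smul, nat_apply, hy]
      exact hgv)
    (fun v : {v : (Fin m ⊕ Fin m) ⊕ Fin 2 → K // v ≠ 0 ∧ minusForm m K a b v = 0} => fq (a := a) (b := b) v.1) (by
      rintro ⟨v, hv0, hv⟩
      obtain ⟨g, hg, hgv⟩ := hG.trans_sing (hsing (o, false)) hv (hb0 _) hv0
      obtain ⟨y, hy⟩ := C.surj ⟨g, hg⟩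
      refine ⟨y, by rw [C.hGG]; trivial, 1, one_ne_zero, ?_⟩
      rw [one_smul, dual_fq, hy]
      congr 1)
  have hone : o ≠ ⟨1, hm⟩ := by
    intro h5
    (simp +singlePass only [h5] at ho)
    exact one_ne_zero ho
  have horth : polar (minusForm m K a b) ((toFrame (wminus m K a b hab)).b (o, true))
      ((toFrame (wminus m K a b hab)).b (⟨1, hm⟩, true)) = 0 := by
    have h2 := h_e (a := a) (b := b) hab ⟨1, hm⟩ ((wminus m K a b hab).e o)
    rw [HO_h] at h2
    refine Eq.trans h2 ?_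
    change (Pi.single (Sum.inl (Sum.inl o)) 1 : (Fin m ⊕ Fin m) ⊕ Fin 2 → K) (Sum.inl (Sum.inr ⟨1, hm⟩)) = 0
    rw [Pi.single_eq_of_ne (by simp)]
  have hind : ∀ r s : K, r • (toFrame (wminus m K a b hab)).b (o, true) +
      s • (toFrame (wminus m K a b hab)).b (⟨1, hm⟩, true) = 0 → r = 0 ∧ s = 0 := by
    intro r s h5
    have h6 : r • (Pi.single (Sum.inl (Sum.inl o)) 1 : (Fin m ⊕ Fin m) ⊕ Fin 2 → K) +
      s • (Pi.single (Sum.inl (Sum.inl ⟨1, hm⟩)) 1 : (Fin m ⊕ Fin m) ⊕ Fin 2 → K) = 0 := h5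
    have h7 := congrFun h6 (Sum.inl (Sum.inl o))
    have h8 := congrFun h6 (Sum.inl (Sum.inl ⟨1, hm⟩))
    rw [Pi.add_apply, Pi.smul_apply, Pi.smul_apply, Pi.single_eq_same, Pi.single_eq_of_ne (by simpa using hone),
      smul_zero, add_zero, smul_eq_mul, mul_one] at h7
    rw [Pi.add_apply, Pi.smul_apply, Pi.smul_apply, Pi.single_eq_same, Pi.single_eq_of_ne (by simpa using hone.symm),
      smul_zero, zero_add, smul_eq_mul, mul_one] at h8
    exact ⟨h7, h8⟩
  have h5 := H353.Ker.rk_quadForm (p := p) (k := AlgebraicClosure F) hK (Q := ⇑(minusForm m K a b))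
    (H925.isND_of_nondeg (nondeg_minusForm m K a b hab)) (hsing (o, true)) (hsing (⟨1, hm⟩, true)) horth hind
    (T := {t, t + (a₀ : ℕ)}) (by
      intro x hx
      rcases Finset.mem_insert.1 hx with rfl | hx
      · omega
      · rw [Finset.mem_singleton] at hx
        omega) j
    (fun v : {v : (Fin m ⊕ Fin m) ⊕ Fin 2 → K // v ≠ 0 ∧ minusForm m K a b v = 0} => fq (a := a) (b := b) v.1)
    (fun s hs hs' => ⟨⟨s, hs, hs'⟩, 1, one_ne_zero, fun v => (one_mul _).symm⟩)
    (fun v : {v : (Fin m ⊕ Fin m) ⊕ Fin 2 → K // v ≠ 0 ∧ minusForm m K a b v = 0} => v.1)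
    (fun s hs hs' => ⟨⟨s, hs, hs'⟩, 1, one_ne_zero, (one_smul _ _).symm⟩)
  rw [Module.finrank_fintype_fun_eq_card] at h4
  rw [h5, Finset.card_pair (by omega), Fintype.card_sum, Fintype.card_sum, Fintype.card_fin, Fintype.card_fin] at h4
  have h6 : m + m + 2 = 2 * m + 2 := by ring
  rwa [h6] at h4

end rank

end Minus

end Cfsg.Agent.H948.Ppd
end

private theorem dce_58bd184872f8 : _root_.True := by
  try have : _root_.True := by simp only [_root_.Cfsg.Agent.H353.Ker.slot.eq_1]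
  try have : _root_.True := by simp only [_root_.Cfsg.Agent.H948.Ppd.Minus.nat.eq_1]
  try have : _root_.True := by simp only [_root_.Cfsg.Agent.H353.Ker.ex.eq_1]
  try have : _root_.True := by simp only [_root_.Cfsg.Agent.H353.Ker.mix.eq_1]
  exact _root_.True.intro
end

-- part: H948/Ppd/Pminus
section
prune_inst 0x1000400284000000000050200002024440004900060000161a00040000041000800010004801002004632001000000000000010400000000a003000000300208002020010000100660089000004000000000000000000000000000000000000000000000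
set_option linter.all false
open scoped Cfsg.Agent.FastGrp

/-!
# TEAM PPD (S5948): `PΩ⁻_{2l}(K)` in its own characteristic (helper948)

* **`nat_pminus`** : `Row k m P`, `Soc P ≃ PΩ⁻_{2l}(K)`, `char K = char F` imply `Nat' P`.
-/

set_option autoImplicit false
set_option linter.unusedSectionVars false
set_option linter.style.haveILetI false

namespace Cfsg.Agent.H948.Ppd

open CoxeterSystem Cfsg.Agent.ChevalleyStructure.CoxeterGeom Cfsg.Agent.Tits.Roots Cfsg.Agent.Tits.Core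
  Cfsg.Agent.Nodes.Reps Cfsg.Agent.Nodes.BNOf Cfsg.Agent.Nodes.Bruhat Cfsg.Agent.Nodes.RGDLib
open Cfsg.Agent.Nodes Cfsg.Agent.Nodes.WittRoot Cfsg.Agent.Nodes.WittRGD Cfsg.Agent.Nodes.WittAll Cfsg.Agent.Nodes.WittInst
open Cfsg.Agent.Nodes.TypeC (isCartan)
open Cfsg.Agent.TitsThree.Siegel Cfsg.Agent.TitsThree.SiegelGen Cfsg.Agent.TitsThree.WittFrame Cfsg.Agent.TitsThree.FrameCN
  Cfsg.Agent.TitsThree.WBridge Cfsg.Agent.TitsThree.KSideO Cfsg.Agent.TitsThree Cfsg.Agent.TitsThree.StdData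
open Cfsg.Agent.LieClassical Cfsg.Agent.LieClassical.OrthCore Cfsg.Agent.LieClassical.OrthTrans
open Cfsg.Agent.LieClassical.OrthSimple Cfsg.Agent.LieClassical.OrthFinite Cfsg.Agent.LieClassical.OrthForms
open Cfsg.Agent.H915.LD Cfsg.Agent.H911 Cfsg.Agent.H905.Md Cfsg.Agent.H925.Nat Cfsg.Agent.Nodes.RGDLift
open Cfsg.Agent.H156.Ppd (Cov lrep exists_cov)
open Cfsg.Agent.Omega.CR Cfsg.Agent.Omega.FOne.Lift.Sd
open Cfsg.Agent.H100.Ppd (Row Num Nat')
open Cfsg Cfsg.Geo QuadraticMap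
open scoped MatrixGroups Matrix

universe u v w

/-! ### arithmetic -/

theorem two_mul_le_pow' {j : ℕ} (hj : 1 ≤ j) : 2 * j ≤ 2 ^ j := by
  induction j, hj using Nat.le_induction with
  | base => norm_num
  | succ j hj ih => rw [pow_succ]; omega

/-- `2 x ≤ ε`, `j = x + 1` -/
theorem eps_ge {x d ε : ℕ} (hd : ∃ m, 2 ≤ m ∧ d = m ^ (x + 1)) (hε : d ≤ ε + 2) : 2 * x ≤ ε := by
  obtain ⟨m, hm, rfl⟩ := hd
  have h1 : 2 ^ (x + 1) ≤ m ^ (x + 1) := Nat.pow_le_pow_left hm _
  have h2 := two_mul_le_pow' (j := x + 1) (by omega)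
  omega

theorem d_ge {j d : ℕ} (hj : 1 ≤ j) (hd : ∃ m, 2 ≤ m ∧ d = m ^ j) : 2 * j ≤ d := by
  obtain ⟨m, hm, rfl⟩ := hd
  exact (two_mul_le_pow' hj).trans (Nat.pow_le_pow_left hm _)

theorem succ_le_pow {l : ℕ} (hl : 3 ≤ l) : l + 1 ≤ 2 ^ (l - 1) := by
  induction l, hl using Nat.le_induction with
  | base => norm_num
  | succ l hl ih =>
    have e : 2 ^ (l + 1 - 1) = 2 * 2 ^ (l - 1) := by
      rw [← pow_succ']
      congr 1
      omega
    rw [e]
    omega

theorem arith_lastM {l j n d ε : ℕ} (hl : 3 ≤ l) (hj : 1 ≤ j) (hn : n < 2 * (l + 1) * j)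
    (hd : ∃ m, 2 ≤ m ∧ d = m ^ j) (hε : d ≤ ε + 2) (h : 2 ^ l + l * 2 ^ (l - 1) * ε ≤ n) : False := by
  obtain ⟨x, rfl⟩ : ∃ x, j = x + 1 := ⟨j - 1, by omega⟩
  have h1 := eps_ge hd hε
  have h2 := succ_le_pow hl
  have e : 2 ^ l = 2 * 2 ^ (l - 1) := by
    rw [← pow_succ']
    congr 1
    omega
  rw [e] at h
  set Q := 2 ^ (l - 1) with hQ
  have h3 : (l + 1) * (2 + 2 * (l * x)) ≤ Q * (2 + 2 * (l * x)) := Nat.mul_le_mul_right _ h2
  have h4 : l * Q * (2 * x) ≤ l * Q * ε := Nat.mul_le_mul_left _ h1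
  have h5 : Q * (2 + 2 * (l * x)) = 2 * Q + l * Q * (2 * x) := by ring
  have h6 : x ≤ l * x := Nat.le_mul_of_pos_left x (by omega)
  have h7 : 2 * (l + 1) * (x + 1) ≤ (l + 1) * (2 + 2 * (l * x)) := by
    calc 2 * (l + 1) * (x + 1) = (l + 1) * (2 + 2 * x) := by ring
      _ ≤ _ := Nat.mul_le_mul_left _ (by omega)
  omega

theorem arith_firstM {l j n d ε : ℕ} (hl : 3 ≤ l) (hj : 1 ≤ j) (hn : n < 2 * (l + 1) * j)
    (hd : ∃ m, 2 ≤ m ∧ d = m ^ j) (hε : d ≤ ε + 2) (h : 2 * l + 2 * l * (l - 1) * ε ≤ n) : j = 1 ∧ d ≤ 2 := by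
  obtain ⟨x, rfl⟩ : ∃ x, j = x + 1 := ⟨j - 1, by omega⟩
  have h1 := eps_ge hd hε
  have h2 : 2 * l * 2 * ε ≤ 2 * l * (l - 1) * ε := Nat.mul_le_mul_right _ (Nat.mul_le_mul_left _ (by omega))
  have h3 : 3 * ε ≤ l * ε := Nat.mul_le_mul_right _ hl
  have h4 : l * (2 * x) ≤ l * ε := Nat.mul_le_mul_left _ h1
  have h5 : 2 * (l + 1) * (x + 1) = 2 * (l * x) + 2 * x + 2 * l + 2 := by ring
  have h6 : 2 * l * 2 * ε = 4 * (l * ε) := by ring
  have h7 : l * (2 * x) = 2 * (l * x) := by ring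
  have h8 : 3 * x ≤ l * x := Nat.mul_le_mul_right _ hl
  rw [h5] at hn
  have hx : x = 0 := by omega
  subst hx
  exact ⟨rfl, by omega⟩

theorem arith_firstA {l j n d ε : ℕ} (hl : 3 ≤ l) (hj : 1 ≤ j) (hn : n < 4 * (l + 1) * j)
    (hd : ∃ m, 2 ≤ m ∧ d = m ^ j) (hε : d ≤ ε + 2) (h : 2 * l + 2 * l * (l - 1) * ε ≤ n) :
    (j = 1 ∧ d ≤ 2) ∨ (l = 3 ∧ j = 2 ∧ d = 4) := by
  obtain ⟨x, rfl⟩ : ∃ x, j = x + 1 := ⟨j - 1, by omega⟩
  have h1 := eps_ge hd hε
  rcases Nat.lt_or_ge 3 l with hl4 | hl3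
  · left
    have h2 : 2 * l * 3 * ε ≤ 2 * l * (l - 1) * ε := Nat.mul_le_mul_right _ (Nat.mul_le_mul_left _ (by omega))
    have h3 : 4 * ε ≤ l * ε := Nat.mul_le_mul_right _ hl4
    have h4 : l * (2 * x) ≤ l * ε := Nat.mul_le_mul_left _ h1
    have h5 : 4 * (l + 1) * (x + 1) = 4 * (l * x) + 4 * x + 4 * l + 4 := by ring
    have h6 : 2 * l * 3 * ε = 6 * (l * ε) := by ring
    have h7 : l * (2 * x) = 2 * (l * x) := by ring
    have h8 : 4 * x ≤ l * x := Nat.mul_le_mul_right _ hl4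
    rw [h5] at hn
    have hx : x = 0 := by
      by_contra hx
      have h9 : l ≤ l * x := Nat.le_mul_of_pos_right l (by omega)
      omega
    subst hx
    refine ⟨rfl, ?_⟩
    by_contra hd2
    have h9 : l ≤ l * ε := Nat.le_mul_of_pos_right l (by omega)
    omega
  · obtain rfl : l = 3 := by omega
    have hx : x ≤ 1 := by omega
    rcases Nat.lt_or_ge x 1 with hx0 | hx1
    · obtain rfl : x = 0 := by omega
      left
      exact ⟨rfl, by omega⟩
    · obtain rfl : x = 1 := by omega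
      right
      refine ⟨rfl, rfl, ?_⟩
      obtain ⟨m, hm, rfl⟩ := hd
      have h3 : m ^ (1 + 1) ≤ 4 := by omega
      have h4 : m = 2 := by
        rw [pow_succ, pow_one] at h3
        nlinarith only [hm, h3]
      rw [h4]
      norm_num

theorem arith_midM {l j n d : ℕ} (hl : 3 ≤ l) (hj : 1 ≤ j) (hn : n < 2 * (l + 1) * j)
    (hd : ∃ m, 2 ≤ m ∧ d = m ^ j) (h : 4 * l * d ≤ 2 * n) : False := by
  have h1 := d_ge hj hd
  have h2 : 4 * l * (2 * j) ≤ 4 * l * d := Nat.mul_le_mul_left _ h1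
  have h3 : 4 * l * (2 * j) = 8 * (l * j) := by ring
  have h4 : 2 * (l + 1) * j = 2 * (l * j) + 2 * j := by ring
  have h5 : 3 * j ≤ l * j := Nat.mul_le_mul_right _ hl
  omega

theorem arith_midA {l j n d N : ℕ} (hj : 1 ≤ j) (hn : n < 4 * (l + 1) * j)
    (hd : ∃ m, 2 ≤ m ∧ d = m ^ j) (hN : 4 * l + 4 ≤ N) (h : N * d ≤ 2 * n) : False := by
  have h1 := d_ge hj hd
  have h2 : (4 * l + 4) * (2 * j) ≤ N * d := Nat.mul_le_mul hN h1
  have h3 : (4 * l + 4) * (2 * j) = 2 * (4 * (l + 1) * j) := by ring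
  omega

theorem arith_midB {j n d ε : ℕ} (hj : 1 ≤ j) (hn : n < 16 * j)
    (hd : ∃ m, 2 ≤ m ∧ d = m ^ j) (hε : d ≤ ε + 2) (h : 12 + 24 * ε ≤ n) : j = 1 := by
  obtain ⟨x, rfl⟩ : ∃ x, j = x + 1 := ⟨j - 1, by omega⟩
  have h1 := eps_ge hd hε
  omega

theorem choose_four {l k : ℕ} (hl : 4 ≤ l) (h1 : 2 ≤ k) (h2 : k < l) : 4 * l + 4 ≤ l.choose k * 2 ^ k := by
  rcases Nat.lt_or_ge 2 k with h3 | h3
  · have h4 := TypeB.le_choose (n := l) (k := k) (by omega) h2
    have h5 : 2 ^ 3 ≤ 2 ^ k := Nat.pow_le_pow_right (by norm_num) h3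
    have h6 : l * 2 ^ 3 ≤ l.choose k * 2 ^ k := Nat.mul_le_mul h4 h5
    omega
  · obtain rfl : k = 2 := by omega
    rw [Nat.choose_two_right]
    have h4 : 2 * (l * (l - 1) / 2) = l * (l - 1) := Nat.mul_div_cancel' (Nat.even_mul_pred_self l).two_dvd
    have h5 : l * 3 ≤ l * (l - 1) := Nat.mul_le_mul_left _ (by omega)
    omega

/-! ### orders -/

section order

variable {n : ℕ} {F : Type u} [Field F] [Finite F] {k m : ℕ} {P : Subgroup (GL (Fin n) F)}

theorem le_minus (h : Row k m P) {K : Type*} [Field K] [Fintype K] {j l : ℕ} (hj : 1 ≤ j)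
    (hjK : Nat.card F ^ j = Nat.card K ^ 2) (hl : 4 ≤ l) {a b : K}
    (hab : ∀ z₁ z₂ : K, z₁ ^ 2 + a * z₁ * z₂ + b * z₂ ^ 2 = 0 → z₁ = 0 ∧ z₂ = 0) {r : ℕ} (hr : r.Prime) (hrm : r ∣ m)
    (hd : r ∣ Nat.card (POmega K (quadFormMinus (l - 1) K a b))) : k ≤ j * l := by
  have h1 := S0294.result (F := K) rfl l hl a b hab
  have key : ∀ i, 1 ≤ i → i ≤ l → r ∣ Fintype.card K ^ (2 * i) - 1 → k ≤ j * l := by
    intro i hi hil hdi
    rw [pow_mul, ← Nat.card_eq_fintype_card] at hdi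
    exact (H650.Ppd.le_of_dvd h.num hr hrm hjK hj hi hdi).trans (Nat.mul_le_mul_left _ hil)
  have h2 : r ∣ Fintype.card K ^ (l * (l - 1)) * (Fintype.card K ^ l + 1) *
      ∏ i ∈ Finset.range (l - 1), (Fintype.card K ^ (2 * (i + 1)) - 1) := by
    rw [← h1]
    exact hd.mul_left _
  rcases hr.dvd_mul.1 h2 with h3 | h3
  · rcases hr.dvd_mul.1 h3 with h3 | h3
    · exfalso
      have h4 := hr.dvd_of_dvd_pow h3
      rw [← Nat.card_eq_fintype_card] at h4
      have h5 : r ∣ Nat.card F ^ j := by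
        rw [hjK]
        exact dvd_pow h4 (by norm_num)
      exact h.num.not_dvd_q hr hrm (hr.dvd_of_dvd_pow h5)
    · refine key l (by omega) le_rfl ?_
      have h4 : Fintype.card K ^ (2 * l) - 1 = (Fintype.card K ^ l + 1) * (Fintype.card K ^ l - 1) := by
        rw [mul_comm 2 l, pow_mul]
        exact Nat.sq_sub_sq (Fintype.card K ^ l) 1
      rw [h4]
      exact h3.mul_right _
  · obtain ⟨i, hi, hd⟩ := (Prime.dvd_finsetProd_iff hr.prime _).1 h3
    rw [Finset.mem_range] at hi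
    exact key (i + 1) (by omega) (by omega) hd

end order

/-! ### edges -/

section edge

variable {F : Type u} [Field F] [Finite F] {ι : Type} [Fintype ι] [DecidableEq ι] {P : Subgroup (GL ι F)}
  {K : Type} [Field K] [Finite K] {ν : Type} [Fintype ν] [DecidableEq ν]
  {H : HForm K (ν → K)} {n : ℕ} {Fr : Frame H (Fin n)} {T₀ : Type v} [Group T₀] {M : Model Fr T₀} {p : ℕ}
  [hp : Fact p.Prime] [hFp : CharP F p] [hKp : CharP K p] (hC : Core P) {hA : AmbT Fr p M.I} {p0 : Fr.Adm}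
  {Y : Type w} [Group Y] [Finite Y] {f : Y →* M.I} {φ : Y →* GL ι F} {n₁ : Fin n → Y}
  (C : Cov (CoxeterMatrix.B n).toCoxeterSystem (isCartan n) p (TB M) (NB hA p0) (XB M) P f φ n₁)
  (hT : ∀ s ∈ (TB M).comap f, ∀ t ∈ (TB M).comap f, s * t = t * s)
include hC C hT

/-- **The dimension of an edge.** -/
theorem edge_pow_B' {i : Fin n} (hi : i ∉ JB M p f φ) {E : Type} [Field E] [Finite E] [CharP E p] {σ : SL(2, E) →* Y}
    (N : Nd ((TB M).comap f) (fun x => lft p f (XB M x)) i σ) {a g s : ℕ} (hF : Nat.card F = p ^ a)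
    (hE : Nat.card E = p ^ g) (hs : s * Nat.gcd a g = g) :
    ∃ m, 2 ≤ m ∧ dB M p f φ i = m ^ s := by
  have hWf : Finite (CoxeterMatrix.B n).Group := TypeC.finite_W (CoxeterMatrix.B n).toCoxeterSystem
  have hne := hC.nonempty
  have := Fintype.ofFinite E
  have N' : H650.Ppd.Nd ((TB M).comap f) (fun x => lft p f (XB M x)) i σ := ⟨N.up, N.lo, N.tor⟩
  exact H650.Ppd.edge_pow C.rgd C.hGG hT C.range hC.absIrred N' hi hF hE hs

end edge

section mid

variable {F : Type u} [Field F] [Finite F] {ι : Type} [Fintype ι] [DecidableEq ι] {P : Subgroup (GL ι F)}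
  {K : Type} [Field K] [Finite K] {ν : Type} [Fintype ν] [DecidableEq ν]
  {H : HForm K (ν → K)} {Fr : Frame H (Fin 3)} {T₀ : Type v} [Group T₀] {M : Model Fr T₀} {p : ℕ}
  [hp : Fact p.Prime] [hFp : CharP F p] [hKp : CharP K p] (hC : Core P) {hA : AmbT Fr p M.I} {p0 : Fr.Adm}
  {Y : Type w} [Group Y] [Finite Y] {f : Y →* M.I} {φ : Y →* GL ι F} {n₁ : Fin 3 → Y}
  (C : Cov (CoxeterMatrix.B 3).toCoxeterSystem (isCartan 3) p (TB M) (NB hA p0) (XB M) P f φ n₁)
  (hT : ∀ s ∈ (TB M).comap f, ∀ t ∈ (TB M).comap f, s * t = t * s)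
include hC C hT

theorem bound_mid (hi : (1 : Fin 3) ∉ JB M p f φ) :
    ∃ ε, dB M p f φ 1 ≤ ε + 2 ∧ 12 + 24 * ε ≤ Fintype.card ι := by
  have hWf : Finite (CoxeterMatrix.B 3).Group := TypeC.finite_W (CoxeterMatrix.B 3).toCoxeterSystem
  have hne := hC.nonempty
  have hchar : CharP (AlgebraicClosure F) p := charP_of_injective_algebraMap (algebraMap F _).injective p
  obtain ⟨hirr, hD⟩ := irr_B hC C hT
  have h1 := dim_ge_mid C.rgd hirr hi
  have h2 := finrank_Io C.rgd hirr (1 : Fin 3)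
  rw [hD, Module.finrank_fintype_fun_eq_card, mul_one] at h1
  rw [hD] at h2
  exact ⟨_, h2, h1⟩

theorem bound_levi (hi : (1 : Fin 3) ∉ JB M p f φ) {E : Type} [Field E] [Finite E] [CharP E p] {σ : SL(2, E) →* Y}
    (N : Nd ((TB M).comap f) (fun x => lft p f (XB M x)) (2 : Fin 3) σ) {a : ℕ} (hF : Nat.card F = p ^ a)
    (hE : Nat.card E = Nat.card F ^ 2) : 20 ≤ Fintype.card ι := by
  have hWf : Finite (CoxeterMatrix.B 3).Group := TypeC.finite_W (CoxeterMatrix.B 3).toCoxeterSystem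
  have hne := hC.nonempty
  have := Fintype.ofFinite E
  exact levi_F C.rgd C.hGG hT C.range hC.absIrred N hi hF hE

end mid

section row

open Minus

variable {n : ℕ} {F : Type u} [Field F] [Finite F] {k m : ℕ} {P : Subgroup (GL (Fin n) F)}
  {K : Type} [Field K] [Fintype K] (p : ℕ) [hp : Fact p.Prime] [hFp : CharP F p] [hKp : CharP K p]
include hp hFp hKp

/-- **`PΩ⁻_{2l}(K)` in its own characteristic.** -/
theorem nat_pminus (h : Row k m P) (hg : ∃ r, r.Prime ∧ r ∣ m ∧ r ∣ Nat.card (Soc P)) {l : ℕ} (hl : 4 ≤ l) (a b : K)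
    (hab : ∀ z₁ z₂ : K, z₁ ^ 2 + a * z₁ * z₂ + b * z₂ ^ 2 = 0 → z₁ = 0 ∧ z₂ = 0)
    (e : Soc P ≃* POmega K (quadFormMinus (l - 1) K a b)) : Nat' P := by
  have hC := h.core
  obtain ⟨l, rfl⟩ : ∃ l', l = l' + 1 := ⟨l - 1, by omega⟩
  have hl3 : 3 ≤ l := by omega
  have e₁ : Soc P ≃* POmega K (quadFormMinus l K a b) := e
  have hG := good_minus (m := l) hab (by omega)
  have hA := ambT_minus hab p (by omega) hG
  have hp0 := pc_ne (m := l) hab
  have e' := e₁
  rw [← coe_minusForm] at e'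
  have hWf : Finite (CoxeterMatrix.B l).Group := TypeC.finite_W (CoxeterMatrix.B l).toCoxeterSystem
  have hperf : commutator ↥(MM hab hG).I = ⊤ := H911.Five.commutator_top hG.E_perfect
  obtain ⟨Y, _, _, f, φ, n₁, C⟩ := exists_covB hC hA hp0 (by omega) hperf e'
  have hT' := torus_comm_minus hab hG (by omega) hA
  obtain ⟨hT, hpow⟩ := lift_comm_pow C hp0 hT' (N₀ := Nat.card K ^ 2) fun i => nodes hab hG hA i
  -- the fields
  obtain ⟨f₀, -, hf₀⟩ := FiniteField.card K p
  rw [← Nat.card_eq_fintype_card] at hf₀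
  have := Fintype.ofFinite F
  obtain ⟨a₀, -, ha₀⟩ := FiniteField.card F p
  rw [← Nat.card_eq_fintype_card] at ha₀
  obtain ⟨j, hj, hjK⟩ := C.exists_j hC hT (a := (f₀ : ℕ) * 2) (Nat.mul_ne_zero f₀.ne_zero two_ne_zero)
    (by rw [pow_mul, ← hf₀]; exact hpow)
  rw [pow_mul, ← hf₀] at hjK
  have haj : (a₀ : ℕ) * j = f₀ * 2 := by
    have h1 : p ^ ((a₀ : ℕ) * j) = p ^ ((f₀ : ℕ) * 2) := by
      rw [pow_mul, ← ha₀, hjK, hf₀, ← pow_mul]
    exact Nat.pow_right_injective hp.out.two_le h1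
  have hk : k ≤ j * (l + 1) := by
    obtain ⟨r, hr, hrm, hrT⟩ := hg
    exact le_minus h hj hjK hl hab hr hrm (by rwa [← Nat.card_congr e.toEquiv])
  have hn10 := h.num.ten
  have hnlt : n < 2 * (l + 1) * j := by
    have := h.num.nlt
    calc n < 2 * k := this
      _ ≤ 2 * (j * (l + 1)) := Nat.mul_le_mul_left _ hk
      _ = 2 * (l + 1) * j := by ring
  -- the last node
  have hlast : ∀ i : Fin l, (i : ℕ) + 1 = l → ∃ (E : Type) (_ : Field E) (_ : Finite E) (_ : CharP E p)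
      (σ : SL(2, E) →* Y), Nat.card E = Nat.card F ^ j ∧
        Nd ((TB (MM hab hG)).comap f) (fun x => lft p f (XB (MM hab hG) x)) i σ := by
    intro i hi
    obtain ⟨E, i1, i2, i3, σ', h1, -, N'⟩ := node_last hab hG hA hi
    obtain ⟨σ, -, N⟩ := lift_nd C hp0 N'
    exact ⟨E, i1, i2, i3, σ, by rw [h1, hjK], N⟩
  have hnl : ∀ i : Fin l, (i : ℕ) + 1 = l → i ∈ JB (MM hab hG) p f φ := by
    intro i hi
    by_contra hiJ
    obtain ⟨E, i1, i2, i3, σ, h1, N⟩ := hlast i hi
    obtain ⟨ε, hε, h3⟩ := bound_last hC C hT hi hiJ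
    rw [Fintype.card_fin] at h3
    exact arith_lastM hl3 hj hnlt (edge_pow_B hC C hT hiJ N h1) hε h3
  have hlong : ∀ i : Fin l, (i : ℕ) + 1 < l → ∃ σ : SL(2, K) →* Y,
        Nd ((TB (MM hab hG)).comap f) (fun x => lft p f (XB (MM hab hG) x)) i σ := by
    intro i hi
    obtain ⟨σ', -, N'⟩ := node_long hab hG hA hi
    obtain ⟨σ, -, N⟩ := lift_nd C hp0 N'
    exact ⟨σ, N⟩
  -- the identification
  have hid : (∀ i : Fin l, 1 ≤ (i : ℕ) → i ∈ JB (MM hab hG) p f φ) →
      dB (MM hab hG) p f φ ⟨0, by omega⟩ ≤ 2 → Nonempty (K ≃+* F) ∧ Nat' P := by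
    intro hJ hd2
    have hspan : Submodule.span K (Set.range (mt (MM hab hG).I)) = ⊤ :=
      span_E hG (by rw [Fintype.card_sum, Fintype.card_sum, Fintype.card_fin, Fintype.card_fin]; omega)
    obtain ⟨τ, θ, hθ⟩ := identify_B hC hA hp0 (by omega) hspan C hT (o := ⟨0, by omega⟩) rfl
      (fun i hi => by
        by_contra h0
        refine hi (hJ i ?_)
        by_contra h1
        exact h0 (Fin.ext (by simp only; omega))) hd2
    have hcj : CjOf (omegaGL (quadFormMinus l F (τ a) (τ b))) P := by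
      refine cjOf_of (mem_omega_iff'' hG) (map_omega_glm τ fun v => ?_) hθ
      rw [coe_minusForm]
      exact quadFormMinus_map τ a b v
    have hab' : ∀ z₁ z₂ : F, z₁ ^ 2 + τ a * z₁ * z₂ + τ b * z₂ ^ 2 = 0 → z₁ = 0 ∧ z₂ = 0 := by
      intro z₁ z₂ hz
      obtain ⟨z₁, rfl⟩ := τ.surjective z₁
      obtain ⟨z₂, rfl⟩ := τ.surjective z₂
      rw [← map_pow, ← map_pow, ← map_mul, ← map_mul, ← map_mul, ← map_add, ← map_add] at hz
      obtain ⟨h1, h2⟩ := hab _ _ ((map_eq_zero τ).1 hz)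
      rw [h1, h2, map_zero]
      exact ⟨rfl, rfl⟩
    have hnd : IsNondegenerateQuadraticForm (quadFormMinus l F (τ a) (τ b)) := by
      rw [← coe_minusForm]
      exact H925.isND_of_nondeg (nondeg_minusForm l F (τ a) (τ b) hab')
    obtain ⟨Q₁, hQ₁, hP, -⟩ := hcj.omega_form hnd
    exact ⟨⟨τ⟩, Or.inr (Or.inr (Or.inr ⟨Q₁, hQ₁, hP.ge⟩))⟩
  -- the first node
  have hfirst : (∀ i : Fin l, 1 ≤ (i : ℕ) → i ∈ JB (MM hab hG) p f φ) →
      (⟨0, by omega⟩ : Fin l) ∉ JB (MM hab hG) p f φ := by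
    intro hJ
    obtain ⟨i, hi⟩ := exists_node hC C hT
    have h3 : i = ⟨0, by omega⟩ := by
      by_contra h0
      refine hi (hJ i ?_)
      by_contra h1
      exact h0 (Fin.ext (by simp only; omega))
    rwa [← h3]
  rcases Nat.even_or_odd' j with ⟨j', hj' | hj'⟩
  · -- `|K| = |F| ^ j'`
    subst hj'
    have hj1 : 1 ≤ j' := by omega
    have hfa : (f₀ : ℕ) = a₀ * j' := by
      have h1 : (a₀ : ℕ) * (2 * j') = a₀ * j' * 2 := by ring
      omega
    have hKF : Nat.card K = Nat.card F ^ j' := by rw [hf₀, ha₀, ← pow_mul, hfa]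
    have hnlt' : n < 4 * (l + 1) * j' := by
      calc n < 2 * (l + 1) * (2 * j') := hnlt
        _ = 4 * (l + 1) * j' := by ring
    have hedge : ∀ i : Fin l, (i : ℕ) + 1 < l → i ∉ JB (MM hab hG) p f φ →
        ∃ m, 2 ≤ m ∧ dB (MM hab hG) p f φ i = m ^ j' := by
      intro i hi hiJ
      obtain ⟨σ, N⟩ := hlong i hi
      exact edge_pow_B hC C hT hiJ N hKF
    have hJ : ∀ i : Fin l, 1 ≤ (i : ℕ) → i ∈ JB (MM hab hG) p f φ := by
      intro i hi1
      by_cases hi : (i : ℕ) + 1 < l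
      · by_contra hiJ
        rcases Nat.lt_or_ge 3 l with hl4 | hl3'
        · have h3 := bound_all hC C hT hiJ
          rw [Fintype.card_fin] at h3
          exact arith_midA hj1 hnlt' (hedge i hi hiJ) (choose_four hl4 (by omega) hi) h3
        · obtain rfl : l = 3 := by omega
          obtain rfl : i = 1 := by
            apply Fin.ext
            change (i : ℕ) = 1
            omega
          obtain ⟨ε, hε, h3⟩ := bound_mid hC C hT hiJ
          rw [Fintype.card_fin] at h3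
          have h4 := arith_midB hj1 hnlt' (hedge 1 hi hiJ) hε h3
          subst h4
          obtain ⟨E, i1, i2, i3, σ, h1, N⟩ := hlast 2 rfl
          have h5 := bound_levi hC C hT hiJ N ha₀ h1
          rw [Fintype.card_fin] at h5
          omega
      · exact hnl i (by omega)
    have ho := hfirst hJ
    obtain ⟨ε, hε, h3⟩ := bound_first hC C hT (by omega) rfl ho
    rw [Fintype.card_fin] at h3
    rcases arith_firstA hl3 hj1 hnlt' (hedge _ (by simp only; omega) ho) hε h3 with ⟨-, hd2⟩ | ⟨h4, h5, h6⟩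
    · exact (hid hJ hd2).2
    · exfalso
      subst h4 h5
      have h7 := rank_minus hC hab hG (by norm_num) hA C hT (o := ⟨0, by omega⟩) rfl
        (fun i => ⟨fun hi => by
          by_contra h0
          refine hi (hJ i ?_)
          by_contra h1
          exact h0 (Fin.ext (by simp only; omega)), fun h0 => by rw [h0]; exact ho⟩) hKF h6
      rw [Fintype.card_fin] at h7
      omega
  · -- `|K| ^ 2 = |F| ^ j`, `j` odd
    obtain ⟨a₁, ha₁⟩ : ∃ a₁, (a₀ : ℕ) = 2 * a₁ := by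
      have h1 : Even ((a₀ : ℕ) * j) := by
        rw [haj, mul_comm]
        exact even_two_mul _
      rcases Nat.even_mul.1 h1 with ⟨x, hx⟩ | ⟨x, hx⟩
      · exact ⟨x, by omega⟩
      · omega
    have hf₁ : (f₀ : ℕ) = a₁ * j := by
      have h1 : 2 * (a₁ * j) = f₀ * 2 := by rw [← haj, ha₁]; ring
      omega
    have hgcd : j * Nat.gcd a₀ f₀ = f₀ := by
      have h1 : Nat.gcd 2 j = 1 := by
        rw [hj']
        exact (Nat.coprime_two_left).2 ⟨j', rfl⟩
      rw [ha₁, hf₁, mul_comm 2 a₁, Nat.gcd_mul_left, h1, mul_one, mul_comm]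
    have hedge : ∀ i : Fin l, (i : ℕ) + 1 < l → i ∉ JB (MM hab hG) p f φ →
        ∃ m, 2 ≤ m ∧ dB (MM hab hG) p f φ i = m ^ j := by
      intro i hi hiJ
      obtain ⟨σ, N⟩ := hlong i hi
      exact edge_pow_B' hC C hT hiJ N ha₀ hf₀ hgcd
    have hJ : ∀ i : Fin l, 1 ≤ (i : ℕ) → i ∈ JB (MM hab hG) p f φ := by
      intro i hi1
      by_cases hi : (i : ℕ) + 1 < l
      · by_contra hiJ
        rcases Nat.lt_or_ge 3 l with hl4 | hl3'
        · have h3 := bound_four hC C hT (by omega) hi1 hiJ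
          rw [Fintype.card_fin] at h3
          exact arith_midM hl3 hj hnlt (hedge i hi hiJ) h3
        · obtain rfl : l = 3 := by omega
          have hi' : (i : ℕ) = 1 := by omega
          have h3 := bound_all hC C hT hiJ
          rw [Fintype.card_fin, hi'] at h3
          exact arith_midM hl3 hj hnlt (hedge i hi hiJ) h3
      · exact hnl i (by omega)
    have ho := hfirst hJ
    obtain ⟨ε, hε, h3⟩ := bound_first hC C hT (by omega) rfl ho
    rw [Fintype.card_fin] at h3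
    obtain ⟨hj1, hd2⟩ := arith_firstM hl3 hj hnlt (hedge _ (by simp only; omega) ho) hε h3
    obtain ⟨⟨τ⟩, -⟩ := hid hJ hd2
    exfalso
    have h4 := Nat.card_congr τ.toEquiv
    rw [hj1, pow_one, ← h4] at hjK
    have h5 := Finite.one_lt_card (α := K)
    nlinarith only [hjK, h5]

end row

end Cfsg.Agent.H948.Ppd
end

-- part: H156/Ppd/PPlus
section
prune_inst 0x1000400284000000018050260003c66c6000490004b00016060004004804e612d012621b4b01012008610445038000811000019421000000a003000011b00a0800342029308a10446008f000004000000000000000000000000000000000000000000000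
set_option linter.all false
open scoped Cfsg.Agent.FastGrp

/-!
# TEAM PPD (S5948), the row `PΩ⁺_{2l}(K)` in its own characteristic (helper156)

**`nat_pplus`** : `Soc P ≃ PΩ⁺_{2l}(K)`, `char K = char F`, `l ≥ 4`, a prime divisor of `m` divides `|Soc P|`: `P = Ω(Q)`.
-/

set_option autoImplicit false
set_option linter.unusedSectionVars false

namespace Cfsg.Agent.H156.Ppd.PPlus

open CoxeterSystem Cfsg.Agent.ChevalleyStructure.CoxeterGeom Cfsg.Agent.Tits.Roots Cfsg.Agent.Tits.Core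
  Cfsg.Agent.Nodes.Reps Cfsg.Agent.Nodes.BNOf Cfsg.Agent.Nodes.Bruhat Cfsg.Agent.Nodes.RGDLib
open QuadraticMap
open Cfsg.Agent.LieClassical Cfsg.Agent.LieClassical.OrthCore Cfsg.Agent.LieClassical.OrthTrans
open Cfsg.Agent.LieClassical.OrthSimple Cfsg.Agent.LieClassical.OrthFinite Cfsg.Agent.LieClassical.OrthForms
open Cfsg.Agent.TitsThree Cfsg.Agent.TitsThree.KSideO Cfsg.Agent.TitsThree.StdData
open Cfsg.Agent.Nodes Cfsg.Agent.Nodes.WittAll Cfsg.Agent.Nodes.WittInst Cfsg.Agent.Nodes.WittU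
  Cfsg.Agent.TitsThree.Siegel Cfsg.Agent.TitsThree.SiegelGen
  Cfsg.Agent.TitsThree.WittFrame Cfsg.Agent.TitsThree.WBridge Cfsg.Agent.TitsThree.WittWeyl
  Cfsg.Agent.TitsThree.FrameCN
open Cfsg.Agent.Nodes.WittRoot (Mono)
open Cfsg.Agent.Nodes.WittRGD (Tor)
open Cfsg.Agent.H905.Md Cfsg.Agent.H915.LD Cfsg.Agent.H925.Nat Cfsg.Agent.H100.Ppd Cfsg.Agent.H911
open Cfsg.Agent.H67.Cross
open Cfsg.Agent.KFacts.MulOdd.Inst (Lv)
open Cfsg.Agent.OddHalf.NI.Mult (up lo dg Coord)
open Cfsg Cfsg.Geo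
open scoped MatrixGroups Matrix

universe u

/-! ### arithmetic -/

section arith

variable {q n k m : ℕ} (h : Num q n k m) {r : ℕ} (hr : r.Prime) (hrm : r ∣ m)
include h hr hrm

theorem dvd_mul_of_dvd {j e : ℕ} (hd : r ∣ (q ^ j) ^ e - 1) : k ∣ j * e := by
  rw [← h.pow_eq_one_iff hr hrm]
  have hq := h.one_lt_q
  have h1 : 1 ≤ (q ^ j) ^ e := Nat.one_le_pow _ _ (Nat.one_le_pow _ _ (by omega))
  rw [← ZMod.natCast_eq_zero_iff, Nat.cast_sub h1, Nat.cast_pow, Nat.cast_pow, Nat.cast_one, sub_eq_zero,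
    ← pow_mul] at hd
  exact hd

/-- the bound for the dimension -/
theorem plus_lt {l : ℕ} (hl : 4 ≤ l) {j : ℕ} (hj : 1 ≤ j) {N g : ℕ}
    (hcard : g * N = (q ^ j) ^ (l * (l - 1)) * ((q ^ j) ^ l - 1) * ∏ i ∈ Finset.range (l - 1), ((q ^ j) ^ (2 * (i + 1)) - 1))
    (hd : r ∣ N) : n < 4 * (l - 1) * j := by
  have hd' : r ∣ g * N := hd.mul_left g
  rw [hcard] at hd'
  have key : ∀ {e : ℕ}, 0 < e → e ≤ 2 * (l - 1) → r ∣ (q ^ j) ^ e - 1 → n < 4 * (l - 1) * j := by
    intro e he0 he hre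
    have h1 := Nat.le_of_dvd (Nat.mul_pos hj he0) (dvd_mul_of_dvd h hr hrm hre)
    have h2 := h.nlt
    have h3 : j * e ≤ j * (2 * (l - 1)) := Nat.mul_le_mul_left _ he
    calc n < 2 * k := h2
      _ ≤ 2 * (j * (2 * (l - 1))) := Nat.mul_le_mul_left _ (h1.trans h3)
      _ = 4 * (l - 1) * j := by ring
  rcases hr.dvd_mul.1 hd' with h1 | h1
  · rcases hr.dvd_mul.1 h1 with h2 | h2
    · exact absurd (hr.dvd_of_dvd_pow (hr.dvd_of_dvd_pow h2)) (h.not_dvd_q hr hrm)
    · exact key (by omega) (by omega) h2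
  · rw [Prime.dvd_finsetProd_iff hr.prime] at h1
    obtain ⟨i, hi, h2⟩ := h1
    rw [Finset.mem_range] at hi
    exact key (by omega) (by omega) h2

end arith

/-! ### the group `Ω⁺` -/

section group

variable {K : Type} [Field K] [Finite K] {n : ℕ}

theorem hfin (n : ℕ) : Finite ((Fin (n + 2) ⊕ Fin (n + 2) → K) ≃ₗ[K] (Fin (n + 2) ⊕ Fin (n + 2) → K)) :=
  Finite.of_injective (fun g : (Fin (n + 2) ⊕ Fin (n + 2) → K) ≃ₗ[K] (Fin (n + 2) ⊕ Fin (n + 2) → K) =>
    (g : (Fin (n + 2) ⊕ Fin (n + 2) → K) → (Fin (n + 2) ⊕ Fin (n + 2) → K))) DFunLike.coe_injective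

/-- the torus -/
abbrev TT (n : ℕ) (K : Type) [Field K] : Subgroup (E (plusForm (n + 2) K)) :=
  (Tor (toFrame (wplus (n + 2) K)) (E (plusForm (n + 2) K))).subgroupOf (E (plusForm (n + 2) K))

/-- the root groups -/
abbrev XX (n : ℕ) (K : Type) [Field K] (x : Fin (n + 2) → ℤ) : Subgroup (E (plusForm (n + 2) K)) :=
  (WittRGDD.rg (toFrame (wplus (n + 2) K)) x).subgroupOf (E (plusForm (n + 2) K))

theorem TT_comm : ∀ s ∈ TT n K, ∀ t ∈ TT n K, s * t = t * s := by
  intro s hs t ht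
  have hA := amb_plus (F := K) (n + 2)
  exact Subtype.ext (torus_comm hA.V0 (Or.inl rfl) (hA.iso _ s.2) (hA.iso _ t.2) hs.2 ht.2)

theorem TT_pow {Q : ℕ} (hQ : ∀ a : K, a ^ Q = a) : ∀ t ∈ TT n K, t ^ Q = t := by
  intro t ht
  have hA := amb_plus (F := K) (n + 2)
  exact Subtype.ext (torus_pow hA.V0 (Or.inl rfl) hQ (hA.iso _ t.2) ht.2)

theorem dg_mem (i : Fin (n + 2)) (t : Kˣ) : OddHalf.NI.OmegaPlus.s (wplus (n + 2) K) i (dg t) ∈ TT n K := by
  rw [Subgroup.mem_subgroupOf]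
  refine ⟨Subtype.property _, fun z => ⟨_, ?_, OddHalf.NI.OmegaPlus.s_dg_apply (wplus (n + 2) K) i t z⟩⟩
  exact Units.ne_zero _

theorem ts (x : Fin (n + 2)) : TS (TT n K) (XX n K (-sr x)) :=
  ts_of_lo (OddHalf.NI.OmegaPlus.s (wplus (n + 2) K) x) ((OddHalf.NI.OmegaPlus.coord (wplus (n + 2) K)).lo x) (dg_mem x)

theorem card_XX (x : Fin (n + 2)) : Nat.card (XX n K (-sr x)) = Nat.card K := by
  have h1 := (OddHalf.NI.OmegaPlus.coord (wplus (n + 2) K)).lo x
  have h2 : Function.Injective fun a : K => OddHalf.NI.OmegaPlus.s (wplus (n + 2) K) x (lo a) := by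
    intro a b hab
    have h3 : (lo a : Matrix.SpecialLinearGroup (Fin 2) K) = lo b := OddHalf.NI.OmegaPlus.phi_injective _ _ hab
    have h4 := congrArg (fun g : Matrix.SpecialLinearGroup (Fin 2) K => g.1 1 0) h3
    simpa [lo] using h4
  have h3 : Nat.card (XX n K (-sr x)) = Nat.card (Set.range fun a : K =>
      OddHalf.NI.OmegaPlus.s (wplus (n + 2) K) x (lo a)) := by
    rw [← h1]
    rfl
  rw [h3, Nat.card_range_of_injective h2]

theorem noCE {p : ℕ} (hp : p.Prime) [CharP K p] (i : Fin (n + 2)) {r : ℕ} (hr : r.Prime) (hne : r ≠ p) :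
    NoCE p r ↥(Lv (XX n K) i) :=
  noCE_of_coord (OddHalf.NI.OmegaPlus.coord (wplus (n + 2) K)) (OddHalf.NI.OmegaPlus.phi_injective _ _) hp hr hne

end group

/-- **The row.** -/
theorem nat_pplus {F : Type u} [Field F] [Finite F] {n k m : ℕ} {P : Subgroup (GL (Fin n) F)} (h : Row k m P)
    (hg : ∃ r, r.Prime ∧ r ∣ m ∧ r ∣ Nat.card (Soc P)) (p : ℕ) [hp : Fact p.Prime] [CharP F p]
    {K : Type} [Field K] [Fintype K] [CharP K p] {l : ℕ} (hl : 4 ≤ l)
    (e : Soc P ≃* POmega K (quadFormPlus l K)) : Nat' P := by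
  classical
  obtain ⟨d, rfl⟩ : ∃ d, l = d + 2 := ⟨l - 2, by omega⟩
  have hC := h.core
  obtain ⟨r, hr, hrm, hrc⟩ := hg
  have hcard := S0293.result (F := K) rfl (d + 2) hl
  rw [Nat.card_congr e.toEquiv] at hrc
  have hG : _root_.Cfsg.Agent.LieClassical.OrthTrans.Good (plusForm (d + 2) K) := by
    apply good_of_finite (nondeg_plusForm (d + 2) K)
    rw [Module.finrank_fintype_fun_eq_card, Fintype.card_sum, Fintype.card_fin]
    omega
  rw [← coe_plusForm] at e
  have hfin := hfin (K := K) d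
  have hA := amb_plus (F := K) (d + 2)
  have h0 := adm_plus (F := K) (d + 2)
  have hWf : Finite (TypeD.M d).Group := TypeD.finite_W (TypeD.M d).toCoxeterSystem
  have hR := rgd_restrict (rgdD hA h0 (TypeD.M d).toCoxeterSystem (p := p))
    (E (plusForm (d + 2) K)) (fun x _ => rgD_le _ hA x) (fun i => WittRGDD.nn_mem hA i)
  have hperf : commutator ↥(E (plusForm (d + 2) K)) = ⊤ := Five.commutator_top hG.E_perfect
  have hG1 : G1 (TypeD.M d).toCoxeterSystem (TypeD.isCartan d) (XX d K) = ⊤ := by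
    have h1 := G1D_eq_top (wplus (d + 2) K) (MonoidHom.id (E (plusForm (d + 2) K))) Function.surjective_id h0
      (TypeD.M d).toCoxeterSystem
    rw [← h1]
    congr 1
    funext x
    exact (Subgroup.map_id _).symm
  obtain ⟨Y, _, _, f, φ, n₁, C⟩ := exists_cov hC hR hG1 hperf (toPOmega_surjective hG) e
  have hpp : p.Prime := Fact.out
  have rk : ∀ i, ∀ r : ℕ, r.Prime → r ≠ p → NoCE p r ↥(Lv (XX d K) i) := fun i r hr hne => noCE hpp i hr hne
  have hT : ∀ s ∈ (TT d K).comap f, ∀ t ∈ (TT d K).comap f, s * t = t * s :=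
    comap_comm C.ker C.cop C.surj hR rk C.gen TT_comm
  obtain ⟨a, ha⟩ : ∃ a : ℕ+, Fintype.card K = p ^ (a : ℕ) := ⟨(FiniteField.card K p).choose, (FiniteField.card K p).choose_spec.2⟩
  have hpow : ∀ t ∈ (TT d K).comap f, t ^ p ^ (a : ℕ) = t :=
    comap_pow C.ker C.cop C.surj hR rk C.gen TT_comm (TT_pow fun x => by rw [← ha]; exact FiniteField.pow_card x)
  have hD := C.finrank_D hC hT
  obtain ⟨j, hj1, hj⟩ := C.exists_j hC hT a.pos.ne' hpow
  rw [← ha] at hj
  have hlt : n < 4 * (d + 1) * j := by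
    rw [← hj] at hcard
    exact plus_lt h.num hr hrm hl hj1 hcard hrc
  have hKc : Nat.card K = Nat.card F ^ j := by rw [hj, Nat.card_eq_fintype_card]
  have hIo : ∀ i, i ∉ Jx (TypeD.M d).toCoxeterSystem (TypeD.isCartan d) (fun x => Nodes.RGDLift.lft p f (XX d K x)) (lrep φ) →
      j ≤ Module.finrank F (Io (TypeD.M d).toCoxeterSystem (TypeD.isCartan d) ((TT d K).comap f)
        (fun x => Nodes.RGDLift.lft p f (XX d K x)) (lrep φ) i) + 1 := by
    intro i hi
    exact C.edge_Io hR hC hi hD (by rw [card_XX, hKc]) (ts i)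
  have hnV := C.nontriv hC
  have hdim : Module.finrank F (Fin n → F) = n := by rw [Module.finrank_fintype_fun_eq_card, Fintype.card_fin]
  by_cases hd4 : d = 2
  · exfalso
    subst hd4
    have h1 := dFour mAD4_eq C.rgd (C.hirr hC) C.gen (C.hnt hC) hD hIo (by rw [hdim]; exact hlt)
    rw [hdim] at h1
    have := h.num.ten
    omega
  · have hd3 : 3 ≤ d := by omega
    obtain ⟨hJ, hL⟩ := DSg.dAll C.rgd (C.hirr hC) hd3 C.gen (C.hnt hC) hD hIo (by rw [hdim]; exact hlt)
    obtain ⟨σ, θ, hθ⟩ := C.ident hC (ψ := _root_.Cfsg.Agent.H925.Nat.mt (E (plusForm (d + 2) K))) (o := (0 : Fin (d + 2)))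
      (span_E hG (by rw [Fintype.card_sum, Fintype.card_fin]; omega))
      (natAt_D hA (by omega) rfl (TypeD.M d).toCoxeterSystem)
      (fixD (by omega) rfl (TypeD.M d).toCoxeterSystem) (surjD hA rfl) hR hJ hD hL
    obtain ⟨τ, rfl⟩ := ringEquiv_of_surj σ (identify_surj hC hθ)
    have hCj : CjOf (omegaGL (quadFormPlus (d + 2) F)) P := by
      refine cjOf_of (mem_omega_iff'' hG) (map_omega_glm τ fun v => ?_) hθ
      rw [coe_plusForm]
      exact quadFormPlus_map τ v
    obtain ⟨Q₁, hQ₁, hP, -⟩ := hCj.omega_form (by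
      rw [← coe_plusForm]
      exact H925.isND_of_nondeg (nondeg_plusForm (d + 2) F))
    exact Or.inr (Or.inr (Or.inr ⟨Q₁, hQ₁, hP.ge⟩))

end Cfsg.Agent.H156.Ppd.PPlus

private theorem dce_c2d3e57dc79f : _root_.True := by
  try have : _root_.True := by simp only [_root_.Cfsg.Agent.OddHalf.NI.Mult.lo.eq_1]
  exact _root_.True.intro
end

-- part: H650/Ppd/Psp
section
set_option linter.all false
open scoped Cfsg.Agent.FastGrp

/-!
# TEAM PPD (S5948): `PSp_2l(K)` in its own characteristic (helper650)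

* `exists_card` : `|F| ^ j = |K|`; `le_of_dvd_sp` : `k ≤ 2 l j`;
* `cjOf_sp` : `l ≥ 3`, `10 ≤ |ι| < 4 l j` : `P` is the symplectic group;
* **`nat_psp`**.
-/

set_option autoImplicit false
set_option linter.unusedSectionVars false
set_option linter.style.haveILetI false

namespace Cfsg.Agent.H650.Ppd

open CoxeterSystem Cfsg.Agent.ChevalleyStructure.CoxeterGeom Cfsg.Agent.Tits.Roots Cfsg.Agent.Tits.Core
  Cfsg.Agent.Nodes.Reps Cfsg.Agent.Nodes.BNOf Cfsg.Agent.Nodes.Bruhat Cfsg.Agent.Nodes.RGDLib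
open Cfsg.Agent.Nodes Cfsg.Agent.Nodes.WittRoot Cfsg.Agent.Nodes.WittRGD Cfsg.Agent.Nodes.WittAll
open Cfsg.Agent.Nodes.TypeC (isCartan)
open Cfsg.Agent.TitsThree Cfsg.Agent.TitsThree.Siegel Cfsg.Agent.TitsThree.WittFrame Cfsg.Agent.TitsThree.FrameCN
open Cfsg.Agent.H915.LD Cfsg.Agent.H911 Cfsg.Agent.H905.Md Cfsg.Agent.H925.Nat Cfsg.Agent.Nodes.RGDLift
open Cfsg.Agent.H156.Ppd (Cov lrep)
open Cfsg.Agent.H948.Ppd (TB XB NB exists_covB identify_B lift_nd lift_comm_pow)
open Cfsg.Agent.Omega.CR Cfsg.Agent.Omega.FOne.Lift.Sd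
open Cfsg Cfsg.Geo
open Cfsg.Agent.H100.Ppd (Row Num Nat')
open scoped MatrixGroups Matrix

universe u

section core

variable {F : Type u} [Field F] [Finite F] {ι : Type} [Fintype ι] [DecidableEq ι] {P : Subgroup (GL ι F)}
  {K : Type} [Field K] [Finite K] (p : ℕ) [hp : Fact p.Prime] [hFp : CharP F p] [hKp : CharP K p] {l : ℕ}
include hp hFp hKp

/-- the order of the field -/
theorem exists_card (hC : Core P) (hm : 0 < l) (hK : 3 ≤ l ∨ (l = 2 ∧ 3 ≤ Nat.card K) ∨ 4 ≤ Nat.card K)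
    (e : Soc P ≃* PSp l K) : ∃ j, 1 ≤ j ∧ Nat.card F ^ j = Nat.card K := by
  have := Fintype.ofFinite K
  haveI := hC.nonempty
  obtain ⟨a, -, ha⟩ := FiniteField.card K p
  have hcard : Nat.card K = p ^ (a : ℕ) := by rw [Nat.card_eq_fintype_card, ha]
  have hfr : Fr P (Nat.card K) := fun g hg => (psp_both p hC.absIrred hC.perfect hm hK e hg).1
  rw [hcard] at hfr
  obtain ⟨j, hj, hj'⟩ := card_pow_eq (F := F) p a.ne_zero (hC.pow_eq p hfr)
  exact ⟨j, by omega, by rw [hcard, hj']⟩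

/-- **The identification.** -/
theorem cjOf_sp (hC : Core P) (hl : 3 ≤ l) (e : Soc P ≃* PSp l K) {j : ℕ} (hj : 1 ≤ j)
    (hjK : Nat.card K = Nat.card F ^ j) (h10 : 10 ≤ Fintype.card ι) (hlt : Fintype.card ι < 4 * (l * j)) :
    CjOf (spGL l F) P := by
  haveI := hC.nonempty
  have hWf : Finite (CoxeterMatrix.B l).Group := TypeC.finite_W (CoxeterMatrix.B l).toCoxeterSystem
  have hA : AmbT (SpIdent.frame l K) p (KInstSp.model l K).I := AmbT.of_amb Nodes.WittU.amb_Sp p
  have hp0 : (SpIdent.adm (m := l) (1 : K)).c ≠ 0 := one_ne_zero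
  have hperf : commutator ↥(KInstSp.model l K).I = ⊤ := commutator_isos hl
  obtain ⟨Y, _, _, f, φ, n₁, C⟩ := exists_covB hC hA hp0 (by omega) hperf e
  have hrg : ∀ x, Nodes.WittRoot.rg (SpIdent.frame l K) x ≤ (KInstSp.model l K).I := fun x => hA.rg_le x
  have hT' : ∀ s ∈ TB (KInstSp.model l K), ∀ t ∈ TB (KInstSp.model l K), s * t = t * s := by
    intro s hs t ht
    apply Subtype.ext
    exact torus_comm hA.V0 (Or.inl rfl) (hA.iso _ s.2) (hA.iso _ t.2) hs.2 ht.2
  have hnd : ∀ i, ∃ σ' : SL(2, K) →* (KInstSp.model l K).I,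
      H948.Ppd.Nd (TB (KInstSp.model l K)) (XB (KInstSp.model l K)) i σ' := by
    intro i
    obtain ⟨σ, h⟩ := nd_Sp (G0 := (KInstSp.model l K).I) hrg i
    exact ⟨σ, h.up, h.lo, h.tor⟩
  obtain ⟨hT, -⟩ := lift_comm_pow (N₀ := Nat.card K) C hp0 hT' (fun i => by
    obtain ⟨σ', h⟩ := hnd i
    refine ⟨K, inferInstance, inferInstance, inferInstance, σ', h, fun x => ?_⟩
    have := Fintype.ofFinite K
    rw [Nat.card_eq_fintype_card, FiniteField.pow_card])
  have hN : ∀ i, ∃ σ : SL(2, K) →* Y, Nd ((TB (KInstSp.model l K)).comap f)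
      (fun x => lft p f (XB (KInstSp.model l K) x)) i σ := by
    intro i
    obtain ⟨σ', h⟩ := hnd i
    obtain ⟨σ, -, h'⟩ := lift_nd C hp0 h
    exact ⟨σ, Nd.ofH948 h'⟩
  obtain ⟨-, hJ, hL⟩ := num_B C.rgd C.hGG hT C.range hC.absIrred hN hl hj hjK h10 hlt
  obtain ⟨τ, θ, hθ⟩ := identify_B hC hA hp0 (by omega)
    (span_of_matrixSet mem_spGL_iff' (H931.spGL_absIrreducible (by omega))) C hT (o := ⟨0, by omega⟩) rfl
    (fun i hi => Fin.ext (hJ i hi)) (hL _ rfl)
  exact cjOf_of mem_spGL_iff' (map_spGL_glm τ l) hθ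

end core

section row

variable {n : ℕ} {F : Type u} [Field F] [Finite F] {k m : ℕ} {P : Subgroup (GL (Fin n) F)}

/-- a prime divisor of `m` dividing `|Sp_2l(K)|` -/
theorem le_of_dvd_sp (h : Row k m P) {K : Type*} [Field K] [Fintype K] {j l : ℕ} (hj : 1 ≤ j)
    (hjK : Nat.card F ^ j = Nat.card K) {r : ℕ} (hr : r.Prime) (hrm : r ∣ m)
    (hd : r ∣ Nat.card (Matrix.symplecticGroup (Fin l) K)) : k ≤ j * (2 * l) := by
  rw [Cfsg.Agent.S0245.result (F := K) rfl l, hr.dvd_mul] at hd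
  rcases hd with hd | hd
  · exfalso
    have h1 := hr.dvd_of_dvd_pow hd
    rw [← Nat.card_eq_fintype_card, ← hjK] at h1
    exact h.num.not_dvd_q hr hrm (hr.dvd_of_dvd_pow h1)
  · obtain ⟨e, he, hde⟩ := (Prime.dvd_finsetProd_iff hr.prime _).1 hd
    rw [Finset.mem_range] at he
    have h1 := le_of_dvd h.num hr hrm (hjK.trans Nat.card_eq_fintype_card) hj (by omega) hde
    exact h1.trans (Nat.mul_le_mul_left _ (by omega))

variable {K : Type} [Field K] [Fintype K] (p : ℕ) [hp : Fact p.Prime] [hFp : CharP F p] [hKp : CharP K p]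
include hp hFp hKp

/-- **`PSp_2l(K)` in its own characteristic.** -/
theorem nat_psp (h : Row k m P) (hg : ∃ r, r.Prime ∧ r ∣ m ∧ r ∣ Nat.card (Soc P)) {l : ℕ} (hl : 2 ≤ l)
    (h3 : l = 2 → 3 ≤ Fintype.card K) (e : Soc P ≃* PSp l K) : Nat' P := by
  have hC := h.core
  have hn := h.num
  have hK : 3 ≤ l ∨ (l = 2 ∧ 3 ≤ Nat.card K) ∨ 4 ≤ Nat.card K := by
    rcases Nat.lt_or_ge l 3 with h1 | h1
    · exact Or.inr (Or.inl ⟨by omega, by rw [Nat.card_eq_fintype_card]; exact h3 (by omega)⟩)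
    · exact Or.inl h1
  obtain ⟨j, hj, hjK⟩ := exists_card p hC (by omega) hK e
  have hk : k ≤ j * (2 * l) := by
    obtain ⟨r, hr, hrm, hrT⟩ := hg
    refine le_of_dvd_sp h hj hjK hr hrm (hrT.trans ?_)
    rw [Nat.card_congr e.toEquiv]
    exact Subgroup.card_quotient_dvd_card _
  have hn10 := hn.ten
  have hnlt : n < 2 * (j * (2 * l)) := lt_of_lt_of_le hn.nlt (Nat.mul_le_mul_left _ hk)
  have h4 : 2 * (j * (2 * l)) = 4 * (l * j) := by ring
  rw [h4] at hnlt
  rcases Nat.lt_or_ge l 3 with h1 | h1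
  · exfalso
    obtain rfl : l = 2 := by omega
    have h5 := le_card_psp4 p hC e (e := j) (by omega) hjK.symm
    rw [Fintype.card_fin] at h5
    omega
  · have h5 := cjOf_sp p hC h1 e hj hjK.symm (by rw [Fintype.card_fin]; exact hn10)
      (by rw [Fintype.card_fin]; exact hnlt)
    obtain ⟨f, hf, h6⟩ := h5.sp_form
    refine Or.inr (Or.inl ⟨f, hf, fun x hx => (h6 x).2 fun u v => hx _ rfl u v⟩)

end row

end Cfsg.Agent.H650.Ppd
end
end
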